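import Cfsg.Agent.Lib.Fi22Local.DiaOrth
import Cfsg.Agent.Lib.Forms.OmegaOrder
import Cfsg.Agent.S0817

/-!
# The elements fixed by the diagram automorphism form `Aut Ω₈⁺(2)`

`omegaG`: the image of `Ω₈⁺(2)`.  It is normal in `diaFix e` with trivial centraliser there, and the
three blocks give index at least six, so conjugation maps `diaFix e` onto all its automorphisms.
-/

set_option autoImplicit false
set_option maxRecDepth 20000

namespace Cfsg.Agent.Fi22Local

open Cfsg Cfsg.Spor Cfsg.Agent.Presented Cfsg.Agent.Presented.FiIndex Cfsg.Agent.OrthH1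
open scoped Matrix commutatorElement

variable {G : Type*} [Group G] (e : Fi22 ≃* G)

/-- Automorphisms transported along an isomorphism. -/
def autCongr {A B : Type*} [Group A] [Group B] (f : A ≃* B) : MulAut A ≃* MulAut B where
  toFun x := f.symm.trans (x.trans f)
  invFun y := f.trans (y.trans f.symm)
  left_inv x := MulEquiv.ext fun a => by simp
  right_inv y := MulEquiv.ext fun b => by simp
  map_mul' x y := MulEquiv.ext fun b => by simp [MulAut.mul_apply]

theorem center_omega8 :
    Subgroup.center ↥(Omega (ZMod 2) (quadFormPlus 4 (ZMod 2))) = ⊥ := by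
  rw [← QForm.coe_plusForm]
  refine Subgroup.card_eq_one.1 (Forms.omega_center_card_one (PF8)
    (QForm.plusForm_nondegenerate _ 4) (by simp) fun g _ hg => Subtype.ext (Units.ext ?_))
  rw [hg]
  ext i j
  simp only [Matrix.neg_apply]
  exact ZMod.neg_eq_self_mod_two _

theorem card_mulAut_omega8 :
    Nat.card (MulAut ↥(Omega (ZMod 2) (quadFormPlus 4 (ZMod 2)))) =
      6 * Nat.card ↥(Omega (ZMod 2) (quadFormPlus 4 (ZMod 2))) := by
  haveI : Fact (Nat.Prime 2) := ⟨Nat.prime_two⟩
  let f : POmega (ZMod 2) (quadFormPlus 4 (ZMod 2)) ≃* ↥(Omega (ZMod 2) (quadFormPlus 4 (ZMod 2))) :=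
    (QuotientGroup.quotientMulEquivOfEq center_omega8).trans QuotientGroup.quotientBot
  rw [← Nat.card_congr (autCongr f).toEquiv, ← Nat.card_congr f.toEquiv,
    S0817.result (F := ZMod 2) 2 1 le_rfl (by simp) 4 le_rfl]
  norm_num

variable [Finite G] (H : Transpos.M22 (Set.range (member e)))
include H

/-- The image of `Ω₈⁺(2)`. -/
noncomputable def omegaG : Subgroup G :=
  (Omega (ZMod 2) (quadFormPlus 4 (ZMod 2))).map (psi e H)

theorem omegaG_le : omegaG e H ≤ diaFix e := by
  rintro _ ⟨M, -, rfl⟩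
  exact psi_mem e H M

/-- The image of `Ω₈⁺(2)` as a group. -/
noncomputable def omegaGEquiv :
    ↥(Omega (ZMod 2) (quadFormPlus 4 (ZMod 2))) ≃* ↥(omegaG e H) :=
  Subgroup.equivMapOfInjective _ _ (psi_injective e H)

theorem pair_mem_of_bc {u v : ℕ} (hu : u ∈ Dia.ns) (hv : v ∈ Dia.ns) (h : Dia.bc u v = true) :
    mu e u * mu e v ∈ omegaG e H := by
  have k1 := mu_conj e hu hv
  have hw := refl_mem_ns hu hv
  rw [h, cond_true] at k1 hw
  have hbc : Dia.bc v u = true := by
    rw [← h, Dia.bc, Dia.bc, Nat.xor_comm v u, Bool.xor_comm (Dia.qc v)]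
  have k2 := mu_conj e hv hu
  rw [hbc, cond_true, Nat.xor_comm, ← k1] at k2
  simp only [mu_inv] at k1 k2
  refine ⟨⁅R8 u, R8 u * R8 v⁆, Subgroup.commutator_mem_commutator trivial trivial, ?_⟩
  rw [map_commutatorElement, map_mul, psi_R8 e H hu, psi_R8 e H hv, commutatorElement_def,
    mul_inv_rev, mu_inv, mu_inv]
  -- `u v` moves `u` to `v`
  calc mu e u * (mu e u * mu e v) * mu e u * (mu e v * mu e u)
      = mu e u * (mu e u * (mu e v * mu e u * mu e v) * mu e u) := by group
    _ = mu e u * ((mu e u * mu e u) * mu e v * (mu e u * mu e u)) := by rw [k2]; group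
    _ = mu e u * mu e v := by rw [mu_sq, one_mul, mul_one]

theorem pair_mem {u v : ℕ} (hu : u ∈ Dia.ns) (hv : v ∈ Dia.ns) :
    mu e u * mu e v ∈ omegaG e H := by
  cases h : Dia.bc u v
  · have hall : Dia.ns.all (fun u => Dia.ns.all fun v => Dia.bc u v || Nat.beq u v ||
        Dia.ns.any fun w => Dia.bc u w && Dia.bc w v) = true := by decide +kernel
    have k := List.all_eq_true.1 (List.all_eq_true.1 hall u hu) v hv
    simp only [Bool.or_eq_true, h, Bool.false_eq_true, false_or, Nat.beq_eq, List.any_eq_true,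
      Bool.and_eq_true] at k
    rcases k with rfl | ⟨w, hw, h1, h2⟩
    · rw [mu_sq]; exact one_mem _
    · have := mul_mem (pair_mem_of_bc e H hu hw h1) (pair_mem_of_bc e H hw hv h2)
      rwa [show mu e u * mu e w * (mu e w * mu e v) = mu e u * (mu e w * mu e w) * mu e v by group,
        mu_sq, mul_one] at this
  · exact pair_mem_of_bc e H hu hv h

theorem even_prod_mem : ∀ l : List ℕ, (∀ u ∈ l, u ∈ Dia.ns) → l.length % 2 = 0 →
    (l.map (mu e)).prod ∈ omegaG e H
  | [], _, _ => one_mem _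
  | [_], _, h => by simp at h
  | u :: v :: l, hl, h => by
    rw [List.map_cons, List.map_cons, List.prod_cons, List.prod_cons, ← mul_assoc]
    exact mul_mem (pair_mem e H (hl u (by simp)) (hl v (by simp)))
      (even_prod_mem l (fun w hw => hl w (by simp [hw])) (by simp only [List.length_cons] at h; omega))

/-- The pairs generate the image of `Ω₈⁺(2)`. -/
theorem omegaG_le_of_pairs {K : Subgroup G}
    (hK : ∀ u ∈ Dia.ns, ∀ v ∈ Dia.ns, mu e u * mu e v ∈ K) : omegaG e H ≤ K := by
  classical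
  have hA : (0x88 : ℕ) ∈ Dia.ns := Dia.ptOf_values.2.2.1
  set S : Set O8 := {M | ∃ u ∈ Dia.ns, ∃ v ∈ Dia.ns, M = R8 u * R8 v}
  set L := Subgroup.closure S
  have hLK : L ≤ K.comap (psi e H) := (Subgroup.closure_le _).2 (by
    rintro _ ⟨u, hu, v, hv, rfl⟩
    show psi e H (R8 u * R8 v) ∈ K
    rw [map_mul, psi_R8 e H hu, psi_R8 e H hv]
    exact hK u hu v hv)
  have two : ∀ M : O8, M ∈ L ∨ M * R8 0x88 ∈ L := by
    intro M
    have hM : M ∈ Subgroup.closure (R8 '' {u | u ∈ Dia.ns}) := closure_R8 ▸ Subgroup.mem_top M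
    induction hM using Subgroup.closure_induction_right with
    | one => exact Or.inl (one_mem _)
    | mul_right M _ g hg ih =>
      obtain ⟨u, hu, rfl⟩ := hg
      rcases ih with h | h
      · exact Or.inr (by rw [mul_assoc]; exact mul_mem h (Subgroup.subset_closure ⟨u, hu, _, hA, rfl⟩))
      · refine Or.inl ?_
        have := mul_mem h (show R8 0x88 * R8 u ∈ L from Subgroup.subset_closure ⟨_, hA, u, hu, rfl⟩)
        rwa [show M * R8 0x88 * (R8 0x88 * R8 u) = M * (R8 0x88 * R8 0x88) * R8 u by group, R8_sq,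
          mul_one] at this
    | mul_inv_cancel M _ g hg ih =>
      obtain ⟨u, hu, rfl⟩ := hg
      rw [inv_eq_of_mul_eq_one_right (R8_sq u)]
      rcases ih with h | h
      · exact Or.inr (by rw [mul_assoc]; exact mul_mem h (Subgroup.subset_closure ⟨u, hu, _, hA, rfl⟩))
      · refine Or.inl ?_
        have := mul_mem h (show R8 0x88 * R8 u ∈ L from Subgroup.subset_closure ⟨_, hA, u, hu, rfl⟩)
        rwa [show M * R8 0x88 * (R8 0x88 * R8 u) = M * (R8 0x88 * R8 0x88) * R8 u by group, R8_sq,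
          mul_one] at this
  have hnorm : ∀ u ∈ Dia.ns, ∀ x ∈ L, R8 u * x * R8 u ∈ L := by
    intro u hu x hx
    induction hx using Subgroup.closure_induction with
    | mem y hy =>
      obtain ⟨a, ha, b, hb, rfl⟩ := hy
      rw [show R8 u * (R8 a * R8 b) * R8 u = (R8 u * R8 a) * (R8 b * R8 u) by group]
      exact mul_mem (Subgroup.subset_closure ⟨u, hu, a, ha, rfl⟩)
        (Subgroup.subset_closure ⟨b, hb, u, hu, rfl⟩)
    | one => rw [mul_one, R8_sq]; exact one_mem _
    | mul x y _ _ hx hy =>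
      have := mul_mem hx hy
      rwa [show R8 u * x * R8 u * (R8 u * y * R8 u) = R8 u * x * (R8 u * R8 u) * y * R8 u by group,
        R8_sq, mul_one, mul_assoc (R8 u) x y] at this
    | inv x _ hx =>
      have := inv_mem hx
      rwa [mul_inv_rev, mul_inv_rev, inv_eq_of_mul_eq_one_right (R8_sq u), ← mul_assoc] at this
  haveI hLn : L.Normal := ⟨fun x hx M => by
    rcases two M with h | h
    · exact mul_mem (mul_mem h hx) (inv_mem h)
    · have := mul_mem (mul_mem h (hnorm _ hA x hx)) (inv_mem h)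
      rwa [show M * R8 0x88 * (R8 0x88 * x * R8 0x88) * (M * R8 0x88)⁻¹ =
        M * (R8 0x88 * R8 0x88) * x * M⁻¹ by group, R8_sq, mul_one] at this⟩
  rintro _ ⟨M, hM, rfl⟩
  refine hLK ?_
  have hle : commutator O8 ≤ L := by
    rw [commutator_def, Subgroup.commutator_le]
    intro p _ q _
    rw [← QuotientGroup.eq_one_iff (N := L)]
    have hq : ∀ r : O8, (r : O8 ⧸ L) = 1 ∨ (r : O8 ⧸ L) = ((R8 0x88)⁻¹ : O8) := fun r =>
      (two r).imp (fun h => (QuotientGroup.eq_one_iff r).2 h) fun h => by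
        have := (QuotientGroup.eq_one_iff (r * R8 0x88)).2 h
        rw [QuotientGroup.mk_mul] at this
        rw [QuotientGroup.mk_inv]
        exact eq_inv_of_mul_eq_one_left this
    show ((⁅p, q⁆ : O8) : O8 ⧸ L) = 1
    rw [show ((⁅p, q⁆ : O8) : O8 ⧸ L) = ⁅(p : O8 ⧸ L), (q : O8 ⧸ L)⁆ from
      map_commutatorElement (QuotientGroup.mk' L) p q]
    rcases hq p with h1 | h1 <;> rcases hq q with h2 | h2 <;> simp [h1, h2, commutatorElement_def]
  exact hle hM

omit H [Finite G] in
theorem pm_mu_blk {g : G} (hg : g ∈ diaFix e) (h1 : blkP (pm e g pA) = 1) {u : ℕ} (hu : u ∈ Dia.ns) :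
    ∃ v ∈ Dia.ns, g * mu e u * g⁻¹ = mu e v := by
  have hA : blkP pA = 1 := by rw [← cpt_88, blk_cpt Dia.ptOf_values.2.2.1]
  obtain ⟨v, hv, h⟩ := exists_code (x := pm e g (cpt u))
    ((blk_congr e hg (x := pA) (by omega) ((blk_cpt hu).trans hA.symm)).trans h1)
  exact ⟨v, hv, by rw [mu, member_conj, ← h]; rfl⟩

/-- Conjugation by `g` maps the image of `Ω₈⁺(2)` into itself. -/
def Keeps (g : G) : Prop := ∀ n ∈ omegaG e H, g * n * g⁻¹ ∈ omegaG e H

theorem keeps_mul {g h : G} (hg : Keeps e H g) (hh : Keeps e H h) : Keeps e H (g * h) :=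
  fun n hn => by
    rw [show g * h * n * (g * h)⁻¹ = g * (h * n * h⁻¹) * g⁻¹ by group]
    exact hg _ (hh n hn)

theorem keeps_of_pairs {g : G}
    (h : ∀ u ∈ Dia.ns, ∀ v ∈ Dia.ns, g * (mu e u * mu e v) * g⁻¹ ∈ omegaG e H) : Keeps e H g :=
  fun n hn => omegaG_le_of_pairs e H (K := (omegaG e H).comap (MulAut.conj g).toMonoidHom) h hn

theorem keeps_blk {g : G} (hg : g ∈ diaFix e) (h1 : blkP (pm e g pA) = 1) : Keeps e H g :=
  keeps_of_pairs e H fun u hu v hv => by
    obtain ⟨u', hu', e1⟩ := pm_mu_blk e hg h1 hu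
    obtain ⟨v', hv', e2⟩ := pm_mu_blk e hg h1 hv
    rw [show g * (mu e u * mu e v) * g⁻¹ = (g * mu e u * g⁻¹) * (g * mu e v * g⁻¹) by group, e1, e2]
    exact pair_mem e H hu' hv'

omit H [Finite G] in
/-- Equal images of the base give equal products of members. -/
theorem prod_eq_of_same {l l' : List ℕ} (h : Dia.sameList l l' = true) :
    (l.map fun n => member e (if hn : n < 3510 then mkPt n hn else pA)).prod =
      (l'.map fun n => member e (if hn : n < 3510 then mkPt n hn else pA)).prod := by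
  simp only [Dia.sameList, Bool.and_eq_true, allList_eq, List.all_eq_true, force_eq, Nat.blt_eq,
    Nat.beq_eq] at h
  obtain ⟨⟨hl, hl'⟩, hb⟩ := h
  have key : ∀ l : List ℕ, (∀ x ∈ l, x < 3510) → ∀ x : Pt, ∀ r, Dia.actList l x = r → r < 3510 →
      (pm e (l.map fun n => member e (if hn : n < 3510 then mkPt n hn else pA)).prod x : ℕ) = r := by
    intro l
    induction l with
    | nil => intro _ x r h _; rw [List.map_nil, List.prod_nil, pm_one]; exact h
    | cons a l ih =>
      intro hl x r h hr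
      have hstep : Dia.actList (a :: l) x =
          bif Nat.blt (Dia.actList l x) 3510 then memAct fuel a (Dia.actList l x) else 3510 := by
        unfold Dia.actList; simp only [force_eq]
      rw [hstep] at h
      by_cases hlt : Dia.actList l x < 3510
      · rw [blt_true hlt, cond_true] at h
        have k := ih (fun y hy => hl y (List.mem_cons_of_mem _ hy)) x _ rfl hlt
        rw [List.map_cons, List.prod_cons, pm_mul, dif_pos (hl a List.mem_cons_self)]
        refine memAct_eq e ?_ hr
        rw [show ((mkPt a (hl a List.mem_cons_self) : Pt) : ℕ) = a from rfl, k]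
        exact h
      · rw [show Nat.blt (Dia.actList l x) 3510 = false by
          simpa [Bool.eq_false_iff, Nat.blt_eq] using hlt, cond_false] at h
        omega
  refine eq_of_pm e fun p hp => Fin.ext ?_
  rw [base_eq] at hp
  obtain ⟨h1, h2⟩ := hb (p : ℕ) hp
  rw [key l hl p _ rfl h1, key l' hl' p _ rfl (h2 ▸ h1), h2]

theorem keeps_16 : Keeps e H (member e (mkPt 16 (by norm_num))) := by
  set x := member e (mkPt 16 (by norm_num : 16 < 3510))
  have hA : (0x88 : ℕ) ∈ Dia.ns := Dia.ptOf_values.2.2.1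
  have key : ∀ u ∈ Dia.ns, x * (mu e u * mA e) * x⁻¹ ∈ omegaG e H := by
    intro u hu
    obtain ⟨hw, hev, hsame⟩ := Dia.words_ok hu
    have h := prod_eq_of_same e hsame
    have hr := hsame
    simp only [Dia.sameList, Bool.and_eq_true, List.all_eq_true, Nat.blt_eq, List.mem_cons,
      List.not_mem_nil, or_false, forall_eq_or_imp, forall_eq] at hr
    obtain ⟨⟨⟨r1, r2⟩, -⟩, -⟩ := hr
    rw [List.map_cons, List.map_cons, List.map_nil, List.prod_cons, List.prod_cons, List.prod_nil,
      mul_one, dif_pos r1, dif_pos r2, List.map_map] at h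
    have e1 : x * mu e u * x⁻¹ = member e (mkPt _ r1) := by
      rw [mu, member_conj]
      exact congrArg _ (Fin.ext (memAct_eq e
        (x := mkPt 16 (by norm_num)) (z := cpt u) (by rw [cpt_val hu]; rfl) r1))
    have e2 : x * mA e * x⁻¹ = member e (mkPt _ r2) := by
      have h16 : (16 : ℕ) < 3510 := by norm_num
      rw [mA, member_conj]
      exact congrArg _ (pm_member e h16 pA rfl r2)
    rw [show x * (mu e u * mA e) * x⁻¹ = (x * mu e u * x⁻¹) * (x * mA e * x⁻¹) by group, e1, e2, h,
      List.map_congr_left (g := mu e) fun v hv => ?_]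
    · exact even_prod_mem e H _ hw hev
    · show member e (if hn : Dia.ptOf v < 3510 then mkPt _ hn else pA) = mu e v
      rfl
  refine keeps_of_pairs e H fun u hu v hv => ?_
  have hAA : mA e * mA e = 1 := member_mul_self e _
  rw [show mu e u * mu e v = (mu e u * mA e) * (mu e v * mA e)⁻¹ by
      rw [mul_inv_rev, mu_inv, show (mA e)⁻¹ = mA e from member_inv e _, mul_assoc (mu e u),
        ← mul_assoc (mA e), hAA, one_mul],
    show x * (mu e u * mA e * (mu e v * mA e)⁻¹) * x⁻¹ =
      (x * (mu e u * mA e) * x⁻¹) * (x * (mu e v * mA e) * x⁻¹)⁻¹ by group]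
  exact mul_mem (key u hu) (inv_mem (key v hv))

omit H [Finite G] in
theorem mem16 : member e (mkPt 16 (by norm_num)) ∈ diaFix e :=
  member_mem_diaFix e (by show Dia.blk 16 ≠ 0; decide +kernel)

/-- `diaFix e` normalises the image of `Ω₈⁺(2)`. -/
theorem keeps_diaFix {g : G} (hg : g ∈ diaFix e) : Keeps e H g := by
  set x := member e (mkPt 16 (by norm_num : 16 < 3510))
  have hA : blkP pA = 1 := by rw [← cpt_88, blk_cpt Dia.ptOf_values.2.2.1]
  have hAm : mA e ∈ diaFix e := dia_mA e
  have h16 : (16 : ℕ) ∈ DiaData.genT := by decide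
  have h43 : (43 : ℕ) ∈ DiaData.genT := by decide
  obtain ⟨_, -, s16⟩ := gen_block e h16
  obtain ⟨_, -, s43⟩ := gen_block e h43
  have hx : x ∈ diaFix e := mem16 e
  have hxx : x * x = 1 := member_mul_self e _
  have hAA : mA e * mA e = 1 := member_mul_self e _
  have hp := fix_map e hg (x := pA) (by omega)
  rcases blk_range hp with h | h | h
  · exact keeps_blk e H hg h
  · have hk : Keeps e H (x * mA e * g) := keeps_blk e H (mul_mem (mul_mem hx hAm) hg) (by
      rw [pm_mul, pm_mul]
      refine (s16 _ (fix_map e hAm hp)).trans ?_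
      rw [show blkP (pm e (mA e) (pm e g pA)) = 3 from (s43 _ hp).trans (by rw [h]; rfl)]
      rfl)
    rw [show g = mA e * (x * (x * mA e * g)) by
      rw [← mul_assoc x, ← mul_assoc x, hxx, one_mul, ← mul_assoc, hAA, one_mul]]
    exact keeps_mul e H (keeps_blk e H hAm (by
      rw [show pm e (mA e) pA = pA from (fix_iff e _ _).2 (Commute.refl _)]; exact hA))
      (keeps_mul e H (keeps_16 e H) hk)
  · have hk : Keeps e H (x * g) := keeps_blk e H (mul_mem hx hg) (by
      rw [pm_mul]
      exact (s16 _ hp).trans (by rw [h]; rfl))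
    rw [show g = x * (x * g) by rw [← mul_assoc, hxx, one_mul]]
    exact keeps_mul e H (keeps_16 e H) hk

theorem omegaG_normal : ((omegaG e H).subgroupOf (diaFix e)).Normal :=
  ⟨fun n hn g => by
    rw [Subgroup.mem_subgroupOf] at hn ⊢
    rw [Subgroup.coe_mul, Subgroup.coe_mul, Subgroup.coe_inv]
    exact keeps_diaFix e H g.2 _ hn⟩

/-- Centralising the image of `Ω₈⁺(2)` in `diaFix e` is trivial. -/
theorem eq_one_of_centralises {g : G} (hg : g ∈ diaFix e)
    (hc : ∀ n ∈ omegaG e H, Commute g n) : g = 1 := by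
  have hA : (0x88 : ℕ) ∈ Dia.ns := Dia.ptOf_values.2.2.1
  have hAb : blkP pA = 1 := by rw [← cpt_88, blk_cpt hA]
  have hgA : pm e g pA = pA := by
    have hp := fix_map e hg (x := pA) (by omega)
    refine Fin.ext (Dia.only43 (lt_of_lt_of_eq (pm e g pA).2 cert_N) hp fun z hz => ?_)
    obtain ⟨hz', hzb⟩ := Dia.six_ok hz
    obtain ⟨u, hu, hcu⟩ := exists_code (x := mkPt z hz') hzb
    have hn := hc _ (pair_mem e H hA hu)
    have hfix : pm e (mu e 0x88 * mu e u) pA = pA := by
      refine (fix_iff e _ _).2 ?_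
      rw [mu_88, show member e pA = mA e from rfl]
      refine (Commute.refl _).mul_left ?_
      have hcm : Dia.six.all (fun z => Dia.comm 43 z) = true := by decide +kernel
      have h43 := List.all_eq_true.1 hcm z hz
      simp only [Dia.comm, force_eq, Bool.and_eq_true, Nat.blt_eq, Nat.beq_eq] at h43
      rw [mu, hcu]
      exact ((commute_members e (x := pA) (z := mkPt z hz') rfl h43.1).2 h43.2).symm
    have h2 : pm e (mu e 0x88 * mu e u) (pm e g pA) = pm e g pA := by
      rw [← pm_mul, ← hn.eq, pm_mul, hfix]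
    have hlt := Dia.act_six_lt hz (lt_of_lt_of_eq (pm e g pA).2 cert_N) hp
    have k := prod_pm e z hz' (pm e g pA) hlt
    rw [show member e pA * member e (mkPt z hz') = mu e 0x88 * mu e u by
      rw [mu_88, mu, hcu]; rfl, h2] at k
    exact k.symm
  have step : ∀ {w' w : ℕ}, w' ∈ Dia.ns → w ∈ Dia.ns → Dia.bc w' w = true →
      Commute g (mu e w') → Commute g (mu e w) := by
    intro w' w hw' hw hb h
    have h3 := refl_mem_ns hw' hw
    rw [hb, cond_true] at h3
    have hbc : Dia.bc (w ^^^ w') w' = true := by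
      have hall : Dia.ns.all (fun w' => Dia.ns.all fun w => !Dia.bc w' w || Dia.bc (w ^^^ w') w') = true := by
        decide +kernel
      have := List.all_eq_true.1 (List.all_eq_true.1 hall w' hw') w hw
      rwa [hb, Bool.not_true, Bool.false_or] at this
    have k := mu_conj e h3 hw'
    rw [hbc, cond_true, Nat.xor_comm w' (w ^^^ w'), Nat.xor_xor_cancel_right] at k
    have hn := hc _ (pair_mem e H h3 hw')
    have e1 : mu e w = mu e (w ^^^ w') * mu e w' * mu e w' * (mu e (w ^^^ w') * mu e w')⁻¹ := by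
      rw [← k]; group
    rw [e1]
    exact (hn.mul_right h).mul_right hn.inv_right
  refine eq_one_of_commute_block e H fun u hu => ?_
  have h88 : Commute g (mu e 0x88) := by
    rw [mu_88]; exact (fix_iff e g pA).1 hgA
  have hall : Dia.ns.all (fun u => Nat.beq u 0x88 || Dia.bc 0x88 u ||
      Dia.ns.any fun w => Dia.bc 0x88 w && Dia.bc w u) = true := by decide +kernel
  have k := List.all_eq_true.1 hall u hu
  simp only [Bool.or_eq_true, Nat.beq_eq, List.any_eq_true, Bool.and_eq_true] at k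
  rcases k with (rfl | k) | ⟨w, hw, k1, k2⟩
  · exact h88
  · exact step hA hu k h88
  · exact step hw hu k2 (step hA hw k1 h88)
where
  prod_pm (e : Fi22 ≃* G) (z : ℕ) (hz : z < 3510) (x : Pt) (hlt : Dia.actList [43, z] x < 3510) :
      (pm e (member e pA * member e (mkPt z hz)) x : ℕ) = Dia.actList [43, z] x := by
    have hstep : Dia.actList [43, z] x =
        bif Nat.blt (memAct fuel z x) 3510 then memAct fuel 43 (memAct fuel z x) else 3510 := by
      unfold Dia.actList; simp only [force_eq]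
      rw [blt_true (lt_of_lt_of_eq x.2 cert_N), cond_true]
    rw [hstep] at hlt ⊢
    by_cases h : memAct fuel z x < 3510
    · rw [blt_true h, cond_true] at hlt ⊢
      rw [pm_mul]
      refine memAct_eq e ?_ hlt
      rw [memAct_eq e (x := mkPt z hz) rfl h]
      rfl
    · rw [show Nat.blt (memAct fuel z x) 3510 = false by
        simpa [Bool.eq_false_iff, Nat.blt_eq] using h, cond_false] at hlt
      omega

omit [Group G] [Finite G] H in
theorem perm_three_cases (p : Equiv.Perm (Fin 3)) :
    p ∈ [1, Equiv.swap 1 2, Equiv.swap 0 2, Equiv.swap 1 2 * Equiv.swap 0 2,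
      Equiv.swap 0 2 * Equiv.swap 1 2, Equiv.swap 1 2 * Equiv.swap 0 2 * Equiv.swap 1 2] := by
  revert p; decide

theorem bperm_mu {u : ℕ} (hu : u ∈ Dia.ns) : bperm e ⟨mu e u, mu_mem e hu⟩ = Equiv.swap 1 2 := by
  rw [bperm_eq_iff]
  have h0 : blkP (pm e (mu e u) (rep 0)) = 1 := by
    have h := blk_congr e (mu_mem e hu) (x := cpt u) (y := rep 0) (by rw [blk_cpt hu]; norm_num)
      (by rw [blk_cpt hu, blk_rep]; rfl)
    rw [show pm e (mu e u) (cpt u) = cpt u from (fix_iff e _ _).2 (Commute.refl _), blk_cpt hu] at h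
    exact h
  have h1 : blkP (pm e (mu e u) (rep 1)) = 3 := by
    obtain ⟨k1, k2⟩ := Dia.first_swaps (lt_of_lt_of_eq (cpt u).2 cert_N) (blk_cpt hu)
    have := memAct_eq e (x := cpt u) (z := rep 1) rfl k1
    rw [blkP]
    show Dia.blk (pm e (member e (cpt u)) (rep 1) : ℕ) = 3
    rw [this]
    exact k2
  have h2 : blkP (pm e (mu e u) (rep 2)) = 2 := by
    have h := blk_congr e (mu_mem e hu) (x := pm e (mu e u) (rep 1)) (y := rep 2) (by omega)
      (by rw [h1, blk_rep]; rfl)
    rw [mu, pm_pm_member, blk_rep] at h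
    exact h
  intro i
  fin_cases i
  · show blkP (pm e (mu e u) (rep 0)) = _
    rw [h0]; rfl
  · show blkP (pm e (mu e u) (rep 1)) = _
    rw [h1]; rfl
  · show blkP (pm e (mu e u) (rep 2)) = _
    rw [h2]; rfl

theorem omegaG_le_ker : omegaG e H ≤ (bperm e).ker.map (diaFix e).subtype := by
  refine omegaG_le_of_pairs e H fun u hu v hv => ⟨⟨_, mu_mem e hu⟩ * ⟨_, mu_mem e hv⟩, ?_, rfl⟩
  rw [SetLike.mem_coe, MonoidHom.mem_ker, map_mul, bperm_mu e H hu, bperm_mu e H hv,
    Equiv.swap_mul_self]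

theorem bperm_surjective : Function.Surjective (bperm e) := by
  have h16 : bperm e ⟨_, mem16 e⟩ = Equiv.swap 0 2 := by
    rw [bperm_eq_iff]
    obtain ⟨_, -, s16⟩ := gen_block e (show (16 : ℕ) ∈ DiaData.genT by decide)
    intro i
    show blkP (pm e (member e (mkPt 16 (by norm_num))) (rep i)) = _
    refine (s16 _ (by rw [blk_rep]; omega)).trans ?_
    rw [blk_rep]
    fin_cases i <;> rfl
  have ha := bperm_mu e H Dia.ptOf_values.2.2.1
  intro p
  have hp := perm_three_cases p
  simp only [List.mem_cons, List.not_mem_nil, or_false] at hp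
  rcases hp with rfl | rfl | rfl | rfl | rfl | rfl
  · exact ⟨1, map_one _⟩
  · exact ⟨_, ha⟩
  · exact ⟨_, h16⟩
  · exact ⟨_, (map_mul _ _ _).trans (congrArg₂ (· * ·) ha h16)⟩
  · exact ⟨_, (map_mul _ _ _).trans (congrArg₂ (· * ·) h16 ha)⟩
  · exact ⟨_, ((map_mul _ _ _).trans (congrArg₂ (· * ·) ((map_mul _ _ _).trans
      (congrArg₂ (· * ·) ha h16)) ha))⟩

/-- The elements fixed by the diagram automorphism form the automorphism group of `Ω₈⁺(2)`. -/
theorem diaFix_equiv :
    Nonempty (↥(diaFix e) ≃* MulAut ↥(Omega (ZMod 2) (quadFormPlus 4 (ZMod 2)))) := by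
  haveI := omegaG_normal e H
  set N := (omegaG e H).subgroupOf (diaFix e)
  let f : ↥(Omega (ZMod 2) (quadFormPlus 4 (ZMod 2))) ≃* ↥N :=
    (omegaGEquiv e H).trans (Subgroup.subgroupOfEquivOfLe (omegaG_le e H)).symm
  let θ : ↥(diaFix e) →* MulAut ↥(Omega (ZMod 2) (quadFormPlus 4 (ZMod 2))) :=
    (autCongr f).symm.toMonoidHom.comp (MulAut.conjNormal : ↥(diaFix e) →* MulAut ↥N)
  have hinj : Function.Injective θ := by
    refine (injective_iff_map_eq_one _).2 fun g hg => Subtype.ext (eq_one_of_centralises e H g.2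
      fun n hn => ?_)
    have h1 : MulAut.conjNormal g = (1 : MulAut ↥N) := (autCongr f).symm.injective (hg.trans (map_one _).symm)
    have h2 := congrArg (fun φ : MulAut ↥N => ((φ ⟨⟨n, omegaG_le e H hn⟩, hn⟩ : ↥N) : diaFix e)) h1
    simp only [MulAut.conjNormal_apply, MulAut.one_apply] at h2
    exact mul_inv_eq_iff_eq_mul.1 (congrArg Subtype.val h2)
  haveI : Finite (MulAut ↥(Omega (ZMod 2) (quadFormPlus 4 (ZMod 2)))) :=
    Nat.finite_of_card_ne_zero (by rw [card_mulAut_omega8]; exact (Nat.mul_pos (by norm_num) Nat.card_pos).ne')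
  refine ⟨MulEquiv.ofBijective θ ((Nat.bijective_iff_injective_and_card θ).2 ⟨hinj,
    le_antisymm (Nat.card_le_card_of_injective θ hinj) ?_⟩)⟩
  rw [card_mulAut_omega8, Nat.card_congr f.toEquiv]
  have hle : N ≤ (bperm e).ker := fun g hg => by
    obtain ⟨g', hg', he⟩ := omegaG_le_ker e H hg
    exact (Subtype.ext he : g' = g) ▸ hg'
  have hindex : (bperm e).ker.index = 6 := by
    rw [Subgroup.index_ker, MonoidHom.range_eq_top.2 (bperm_surjective e H), Subgroup.card_top,
      Nat.card_perm, Nat.card_fin]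
    rfl
  rw [← Subgroup.card_mul_index (bperm e).ker, hindex, mul_comm 6]
  exact Nat.mul_le_mul_right 6 (Subgroup.card_le_of_le hle)

end Cfsg.Agent.Fi22Local
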