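import Cfsg.Agent.Lib.Fi22Local.Diagram
import Cfsg.Agent.Lib.Fi22Local.DiaData

/-!
# Kernel checks on the members fixed by the diagram automorphism

Facts about the numbers of points only; the readings in a group are in `DiaBlocks`.
-/

set_option autoImplicit false
set_option maxRecDepth 20000

namespace Cfsg.Agent.Fi22Local.Dia

open Cfsg.Spor Cfsg.Agent.Presented DiaData

/-- The block of a point; 0 for the moved points. -/
noncomputable def blk (x : ℕ) : ℕ :=
  Bool.rec (Bool.rec (Bool.rec 0 3 (Nat.beq (Nat.land 1 (Nat.shiftRight blk3 x)) 1)) 2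
    (Nat.beq (Nat.land 1 (Nat.shiftRight blk2 x)) 1)) 1
    (Nat.beq (Nat.land 1 (Nat.shiftRight blk1 x)) 1)

/-- `f` holds on all fixed points. -/
noncomputable def allFixed (f : ℕ → Bool) : Bool :=
  checkFast (fun x => Nat.beq (blk x) 0 || f x) 12 3510

theorem allFixed_spec {f : ℕ → Bool} (h : allFixed f = true) {x : ℕ} (hx : x < 3510) (hb : blk x ≠ 0) :
    f x = true := by
  rw [allFixed, ← checkBelow_fast] at h
  have := checkBelow_spec h x hx
  rwa [show Nat.beq (blk x) 0 = false from Bool.eq_false_iff.2 (by rwa [ne_eq, Nat.beq_eq]),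
    Bool.false_or] at this

theorem blk_fixed {x : ℕ} (hx : x < 3510) : dpi x = x ↔ blk x ≠ 0 := by
  have h : checkBelow (fun x => Nat.beq (dpi x) x == !Nat.beq (blk x) 0) 12 3510 = true := by
    rw [checkBelow_fast]; decide +kernel
  have k := checkBelow_spec h x hx
  simp only [beq_iff_eq] at k
  rw [← Nat.beq_eq, k, Bool.not_eq_true', ne_eq, ← Nat.beq_eq, Bool.not_eq_true]

/-- Whether two points are those of commuting members. -/
noncomputable def comm (x z : ℕ) : Bool :=
  force (memAct fuel x z) fun r => Nat.blt r 3510 && Nat.beq r z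

/-- The block of the image of block `b` under the generator at `g`. -/
def swapB (g b : ℕ) : ℕ :=
  bif Nat.beq g 43 then ([0, 1, 3, 2]).getD b 0 else
  bif Nat.beq g 132 then ([0, 2, 1, 3]).getD b 0 else ([0, 3, 2, 1]).getD b 0

theorem gens_ok : genT.all (fun g => Nat.blt g 3510 && !Nat.beq (blk g) 0) = true := by decide +kernel

theorem gens_act {g : ℕ} (hg : g ∈ genT) {x : ℕ} (hx : x < 3510) (hb : blk x ≠ 0) :
    memAct fuel g x < 3510 ∧ blk (memAct fuel g x) = swapB g (blk x) := by
  have h : allFixed (fun x => genT.all fun g =>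
      force (memAct fuel g x) fun r => Nat.blt r 3510 && Nat.beq (blk r) (swapB g (blk x))) = true := by
    decide +kernel
  simpa only [List.all_eq_true, force_eq, Bool.and_eq_true, Nat.blt_eq, Nat.beq_eq] using
    List.all_eq_true.1 (allFixed_spec h hx hb) g hg

/-- The points reached by the tree. -/
def reach : List (ℕ × ℕ × ℕ) → List ℕ → List ℕ
  | [], seen => seen
  | (x, g, p) :: l, seen => reach l (bif seen.contains p then x :: seen else seen)

theorem reach_all {x : ℕ} (hx : x < 3510) (hb : blk x ≠ 0) : x ∈ reach stepT [43] := by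
  have h : allFixed (fun x => (reach stepT [43]).contains x) = true := by decide +kernel
  simpa using allFixed_spec h hx hb

theorem steps_ok {t : ℕ × ℕ × ℕ} (ht : t ∈ stepT) :
    t.2.1 ∈ genT ∧ t.2.2 < 3510 ∧ blk t.2.2 ≠ 0 ∧ memAct fuel t.2.1 t.2.2 = t.1 := by
  have h : stepT.all (fun t => genT.contains t.2.1 && Nat.blt t.2.2 3510 && !Nat.beq (blk t.2.2) 0 &&
      Nat.beq (memAct fuel t.2.1 t.2.2) t.1) = true := by decide +kernel
  simpa [List.all_eq_true, Nat.blt_eq, Nat.beq_eq, ← Bool.not_eq_true, and_assoc] using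
    List.all_eq_true.1 h t ht

theorem reach_induction {P : ℕ → Prop} (h43 : P 43)
    (hs : ∀ g ∈ genT, ∀ p, p < 3510 → blk p ≠ 0 → P p → P (memAct fuel g p)) {x : ℕ} (hx : x < 3510)
    (hb : blk x ≠ 0) : P x := by
  suffices key : ∀ l, (∀ t ∈ l, t ∈ stepT) → ∀ seen : List ℕ, (∀ y ∈ seen, P y) →
      ∀ y ∈ reach l seen, P y from
    key _ (fun t h => h) [43] (fun y hy => by rw [List.mem_singleton.1 hy]; exact h43) x (reach_all hx hb)
  intro l hl
  induction l with
  | nil => intro seen hs y hy; exact hs y hy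
  | cons t l ih =>
    obtain ⟨a, g, p⟩ := t
    intro seen hseen y hy
    refine ih (fun t ht => hl t (List.mem_cons_of_mem _ ht)) _ (fun z hz => ?_) y hy
    cases hp : seen.contains p with
    | false => rw [hp, cond_false] at hz; exact hseen z hz
    | true =>
      rw [hp, cond_true, List.mem_cons] at hz
      rcases hz with rfl | hz
      · obtain ⟨h1, h2, h3, h4⟩ := steps_ok (hl (z, g, p) List.mem_cons_self)
        have := hs g h1 p h2 h3 (hseen p (by simpa using hp))
        rwa [show memAct fuel g p = z from h4] at this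
      · exact hseen z hz

theorem row43 {y : ℕ} (hy : y < 3510) (hb : blk y ≠ 0) :
    memAct fuel 43 y < 3510 ∧ (memAct fuel 43 y = y → blk y = 1) := by
  have h : allFixed (fun y => force (memAct fuel 43 y) fun r =>
      Nat.blt r 3510 && (!Nat.beq r y || Nat.beq (blk y) 1)) = true := by decide +kernel
  have k := allFixed_spec h hy hb
  simp only [force_eq, Bool.and_eq_true, Bool.or_eq_true, Bool.not_eq_true', Nat.blt_eq, Nat.beq_eq,
    ← Bool.not_eq_true] at k
  exact ⟨k.1, fun e => k.2.resolve_left fun h => h e⟩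

theorem link43 {y : ℕ} (hy : y < 3510) (hb : blk y = 1) :
    comm 43 y = true ∨ ∃ z, z < 3510 ∧ blk z = 1 ∧ comm 43 z = true ∧ comm z y = true := by
  have h : allFixed (fun y => !Nat.beq (blk y) 1 || comm 43 y ||
      linkT.any fun z => Nat.blt z 3510 && Nat.beq (blk z) 1 && comm 43 z && comm z y) = true := by
    decide +kernel
  have k := allFixed_spec h hy (by omega)
  simp [hb, Nat.blt_eq, and_assoc] at k
  exact k.imp_right fun ⟨z, _, h⟩ => ⟨z, h⟩

theorem first_swaps {u : ℕ} (hu : u < 3510) (hb : blk u = 1) :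
    memAct fuel u 16 < 3510 ∧ blk (memAct fuel u 16) = 3 := by
  have h : allFixed (fun u => !Nat.beq (blk u) 1 ||
      force (memAct fuel u 16) fun r => Nat.blt r 3510 && Nat.beq (blk r) 3) = true := by decide +kernel
  simpa [hb, Nat.blt_eq] using allFixed_spec h hu (by omega)

/-- The point of a vector. -/
noncomputable def ptOf (v : ℕ) : ℕ := ptT.getD v 3510

/-- The quadratic form on codes. -/
def qc (v : ℕ) : Bool :=
  xor (xor (v.testBit 0 && v.testBit 4) (v.testBit 1 && v.testBit 5))
    (xor (v.testBit 2 && v.testBit 6) (v.testBit 3 && v.testBit 7))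

/-- The polar form on codes. -/
def bc (u v : ℕ) : Bool := xor (qc (u ^^^ v)) (xor (qc u) (qc v))

/-- The codes of the non-singular vectors. -/
def ns : List ℕ := (List.range 256).filter qc

theorem ptOf_lt {v : ℕ} (hv : v ∈ ns) : ptOf v < 3510 ∧ blk (ptOf v) = 1 := by
  have h : ns.all (fun v => Nat.blt (ptOf v) 3510 && Nat.beq (blk (ptOf v)) 1) = true := by
    decide +kernel
  simpa [Nat.blt_eq] using List.all_eq_true.1 h v hv

theorem ptOf_inj {u v : ℕ} (hu : u ∈ ns) (hv : v ∈ ns) (e : ptOf u = ptOf v) : u = v := by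
  have h : ns.all (fun u => ns.all fun v => !Nat.beq (ptOf u) (ptOf v) || Nat.beq u v) = true := by
    decide +kernel
  have k := List.all_eq_true.1 (List.all_eq_true.1 h u hu) v hv
  simpa [e] using k

theorem ptOf_surj {x : ℕ} (hx : x < 3510) (hb : blk x = 1) : ∃ v ∈ ns, ptOf v = x := by
  have h : allFixed (fun x => !Nat.beq (blk x) 1 || ns.any fun v => Nat.beq (ptOf v) x) = true := by
    decide +kernel
  simpa [hb] using allFixed_spec h hx (by omega)

theorem ptOf_values : ptOf 0x88 = 43 ∧ ptOf 0x44 = 44 ∧ 0x88 ∈ ns ∧ 0x44 ∈ ns := by decide +kernel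

theorem refl_act {r v : ℕ} (hr : r ∈ ns) (hv : v ∈ ns) :
    memAct fuel (ptOf r) (ptOf v) = ptOf (bif bc r v then v ^^^ r else v) := by
  have h : ns.all (fun r => ns.all fun v => force (ptOf r) fun x => force (ptOf v) fun z =>
      Nat.beq (memAct fuel x z) (ptOf (bif bc r v then v ^^^ r else v))) = true := by decide +kernel
  simpa using List.all_eq_true.1 (List.all_eq_true.1 h r hr) v hv

/-- The image of `z` under the product of the members at the listed points. -/
noncomputable def actList (l : List ℕ) (z : ℕ) : ℕ :=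
  List.rec (motive := fun _ => ℕ) z (fun x _ ih => force ih fun r =>
    bif Nat.blt r 3510 then memAct fuel x r else 3510) l

/-- The products at two lists agree on the base. -/
noncomputable def sameList (l l' : List ℕ) : Bool :=
  l.all (fun x => Nat.blt x 3510) && l'.all (fun x => Nat.blt x 3510) &&
    allList (fun p => force (actList l p) fun r => Nat.blt r 3510 && Nat.beq r (actList l' p))
      [0, 6, 40, 154, 43, 66, 1, 5, 13]

/-- The word of a vector. -/
def wordOf (v : ℕ) : List ℕ := wordT.getD v []

theorem words_ok {v : ℕ} (hv : v ∈ ns) :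
    (∀ u ∈ wordOf v, u ∈ ns) ∧ (wordOf v).length % 2 = 0 ∧
      sameList [memAct fuel 16 (ptOf v), memAct fuel 16 43] ((wordOf v).map ptOf) = true := by
  have h : ns.all (fun v => (wordOf v).all (fun u => ns.contains u) &&
      Nat.beq ((wordOf v).length % 2) 0 &&
      sameList [memAct fuel 16 (ptOf v), memAct fuel 16 43] ((wordOf v).map ptOf)) = true := by
    decide +kernel
  have k := List.all_eq_true.1 h v hv
  simp only [Bool.and_eq_true, List.all_eq_true, List.contains_eq_mem, decide_eq_true_eq,
    Nat.beq_eq] at k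
  exact ⟨k.1.1, k.1.2, k.2⟩

/-- Six points of the first block commuting with 43. -/
def six : List ℕ := [44, 47, 48, 50, 51, 101]

theorem six_ok {z : ℕ} (hz : z ∈ six) : z < 3510 ∧ blk z = 1 := by
  have h : six.all (fun z => Nat.blt z 3510 && Nat.beq (blk z) 1) = true := by decide +kernel
  simpa [Nat.blt_eq] using List.all_eq_true.1 h z hz

theorem only43 {x : ℕ} (hx : x < 3510) (hb : blk x ≠ 0)
    (h : ∀ z ∈ six, actList [43, z] x = x) : x = 43 := by
  have k : allFixed (fun x => Nat.beq x 43 || six.any fun z => !Nat.beq (actList [43, z] x) x) = true := by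
    decide +kernel
  have k' := allFixed_spec k hx hb
  simp only [Bool.or_eq_true, Nat.beq_eq, List.any_eq_true, Bool.not_eq_true', ← Bool.not_eq_true] at k'
  rcases k' with k' | ⟨z, hz, hne⟩
  · exact k'
  · exact absurd (h z hz) hne

theorem act_six_lt {z : ℕ} (hz : z ∈ six) {x : ℕ} (hx : x < 3510) (hb : blk x ≠ 0) :
    actList [43, z] x < 3510 := by
  have k : allFixed (fun x => six.all fun z => Nat.blt (actList [43, z] x) 3510) = true := by
    decide +kernel
  simpa [Nat.blt_eq] using List.all_eq_true.1 (allFixed_spec k hx hb) z hz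

end Cfsg.Agent.Fi22Local.Dia
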