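import Cfsg.Agent.Lib.Fi22Local.DiagramCounts
import Cfsg.Agent.Lib.Fi22Local.DiaChecks

/-!
# The three blocks of members fixed by the diagram automorphism

`diaFix e`: the elements fixed by `dia e`.  Two of the 360 fixed members lie in one block iff they are
joined by commuting fixed members, so `diaFix e` permutes the three blocks (`bperm`).
-/

set_option autoImplicit false
set_option maxRecDepth 20000

namespace Cfsg.Agent.Fi22Local

open Cfsg.Spor Cfsg.Agent.Presented Cfsg.Agent.Presented.FiIndex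

variable {G : Type*} [Group G] (e : Fi22 ≃* G)

/-- The elements fixed by the diagram automorphism. -/
def diaFix : Subgroup G := (dia e).toMonoidHom.eqLocus (MonoidHom.id G)

theorem mem_diaFix {g : G} : g ∈ diaFix e ↔ dia e g = g := Iff.rfl

/-- The block of a point. -/
noncomputable def blkP (x : Pt) : ℕ := Dia.blk x

theorem dia_fix_iff (x : Pt) : dia e (member e x) = member e x ↔ blkP x ≠ 0 := by
  rw [dia_member, (member_injective e).eq_iff, Fin.ext_iff]
  exact Dia.blk_fixed (lt_of_lt_of_eq x.2 cert_N)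

theorem member_mem_diaFix {x : Pt} (hx : blkP x ≠ 0) : member e x ∈ diaFix e :=
  (dia_fix_iff e x).2 hx

theorem blk_range {x : Pt} (hx : blkP x ≠ 0) : blkP x = 1 ∨ blkP x = 2 ∨ blkP x = 3 := by
  unfold blkP Dia.blk at hx ⊢
  generalize Nat.beq (Nat.land 1 (Nat.shiftRight DiaData.blk1 x)) 1 = b1 at hx ⊢
  generalize Nat.beq (Nat.land 1 (Nat.shiftRight DiaData.blk2 x)) 1 = b2 at hx ⊢
  generalize Nat.beq (Nat.land 1 (Nat.shiftRight DiaData.blk3 x)) 1 = b3 at hx ⊢
  cases b1 <;> cases b2 <;> cases b3 <;> simp at hx ⊢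

theorem fix_map {g : G} (hg : g ∈ diaFix e) {x : Pt} (hx : blkP x ≠ 0) : blkP (pm e g x) ≠ 0 := by
  rw [← dia_fix_iff e, ← member_conj, map_mul, map_mul, map_inv, (mem_diaFix e).1 hg,
    (dia_fix_iff e x).2 hx]

/-- The point with a given number. -/
def mkPt (n : ℕ) (h : n < 3510) : Pt := ⟨n, lt_of_lt_of_eq h cert_N.symm⟩

theorem pm_member {y : ℕ} (hy : y < 3510) (x : Pt) {r : ℕ} (h : memAct fuel y x = r) (hr : r < 3510) :
    pm e (member e (mkPt y hy)) x = mkPt r hr :=
  Fin.ext (memAct_eq e (x := mkPt y hy) h hr)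

theorem pm_pm_member (m x : Pt) : pm e (member e m) (pm e (member e m) x) = x := by
  rw [← pm_mul, member_mul_self, pm_one]

theorem commute_iff_pm (x y : Pt) : Commute (member e x) (member e y) ↔ pm e (member e x) y = y :=
  (fix_iff e (member e x) y).symm

/-- A generating point. -/
theorem gen_block {g : ℕ} (hg : g ∈ DiaData.genT) :
    ∃ hlt : g < 3510, blkP (mkPt g hlt) ≠ 0 ∧ ∀ x : Pt, blkP x ≠ 0 →
      blkP (pm e (member e (mkPt g hlt)) x) = Dia.swapB g (blkP x) := by
  have h := List.all_eq_true.1 Dia.gens_ok g hg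
  simp only [Bool.and_eq_true, Nat.blt_eq, Bool.not_eq_true', ← Bool.not_eq_true, Nat.beq_eq] at h
  refine ⟨h.1, h.2, fun x hx => ?_⟩
  obtain ⟨h1, h2⟩ := Dia.gens_act hg (lt_of_lt_of_eq x.2 cert_N) hx
  rw [pm_member e h.1 x rfl h1]
  exact h2

theorem swapB_swapB (g : ℕ) {b : ℕ} (hb : b = 1 ∨ b = 2 ∨ b = 3) :
    Dia.swapB g (Dia.swapB g b) = b := by
  unfold Dia.swapB
  cases Nat.beq g 43 <;> cases Nat.beq g 132 <;> rcases hb with rfl | rfl | rfl <;> rfl

/-- Joined by commuting fixed members. -/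
def Linked (x y : Pt) : Prop :=
  Relation.ReflTransGen
    (fun p q => blkP p ≠ 0 ∧ blkP q ≠ 0 ∧ Commute (member e p) (member e q)) x y

theorem linked_map {g : G} (hg : g ∈ diaFix e) {x y : Pt} (h : Linked e x y) :
    Linked e (pm e g x) (pm e g y) := by
  induction h with
  | refl => exact Relation.ReflTransGen.refl
  | tail _ hpq ih =>
    refine ih.tail ⟨fix_map e hg hpq.1, fix_map e hg hpq.2.1, ?_⟩
    rw [← member_conj, ← member_conj]
    exact hpq.2.2.map (MulAut.conj g).toMonoidHom

/-- Properties holding at 43 and preserved by the generators hold at all fixed points. -/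
theorem fixed_induction {P : Pt → Prop} (h43 : P pA)
    (hs : ∀ m x : Pt, ((m : ℕ) ∈ DiaData.genT) → blkP x ≠ 0 → P x → P (pm e (member e m) x))
    {x : Pt} (hx : blkP x ≠ 0) : P x := by
  have key := Dia.reach_induction (P := fun n => ∀ h : n < 3510, P (mkPt n h)) (fun _ => h43)
    (fun g hg p hp hb ih hlt => by
      obtain ⟨hg', -, -⟩ := gen_block e hg
      have := hs (mkPt g hg') (mkPt p hp) hg hb (ih hp)
      rwa [pm_member e hg' (mkPt p hp) rfl hlt] at this)
    (lt_of_lt_of_eq x.2 cert_N) hx (lt_of_lt_of_eq x.2 cert_N)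
  exact key

/-- Commuting fixed members are in one block. -/
theorem blk_eq_of_commute {x y : Pt} (hx : blkP x ≠ 0) (hy : blkP y ≠ 0)
    (h : Commute (member e x) (member e y)) : blkP y = blkP x := by
  refine fixed_induction e (P := fun x => ∀ y, blkP y ≠ 0 →
    Commute (member e x) (member e y) → blkP y = blkP x) ?_ ?_ hx y hy h
  · intro y hy h
    obtain ⟨h1, h2⟩ := Dia.row43 (lt_of_lt_of_eq y.2 cert_N) hy
    rw [show blkP pA = 1 from (Dia.ptOf_values.1 ▸ (Dia.ptOf_lt Dia.ptOf_values.2.2.1).2 : Dia.blk 43 = 1)]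
    exact h2 ((commute_members e (x := pA) (z := y) rfl h1).1 h)
  · intro m x hm hx ih y hy h
    obtain ⟨hlt, hm0, hm'⟩ := gen_block e hm
    rw [show mkPt (m : ℕ) hlt = m from Fin.ext rfl] at hm0 hm'
    have hmem := member_mem_diaFix e hm0
    have hy' := fix_map e hmem hy
    have k := ih _ hy' (by
      have := h.map (MulAut.conj (member e m)).toMonoidHom
      simp only [MulEquiv.coe_toMonoidHom, MulAut.conj_apply] at this
      rwa [member_conj, member_conj, pm_pm_member] at this)
    rw [hm' x hx, ← k, hm' y hy, swapB_swapB _ (blk_range hy)]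

theorem linked_of_blk {x y : Pt} (hx : blkP x ≠ 0) (hy : blkP y = blkP x) : Linked e x y := by
  revert y
  refine fixed_induction e (P := fun x => ∀ {y}, blkP y = blkP x → Linked e x y) ?_ ?_ hx
  · intro y hy
    have hA : blkP pA = 1 :=
      (Dia.ptOf_values.1 ▸ (Dia.ptOf_lt Dia.ptOf_values.2.2.1).2 : Dia.blk 43 = 1)
    rw [hA] at hy
    have hA0 : blkP pA ≠ 0 := by omega
    have hc : ∀ p q : Pt, Dia.comm p q = true → Commute (member e p) (member e q) := fun p q h => by
      simp only [Dia.comm, force_eq, Bool.and_eq_true, Nat.blt_eq, Nat.beq_eq] at h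
      exact (commute_members e rfl h.1).2 h.2
    rcases Dia.link43 (lt_of_lt_of_eq y.2 cert_N) hy with h | ⟨z, hz, hzb, h1, h2⟩
    · exact Relation.ReflTransGen.single ⟨hA0, by omega, hc pA y h⟩
    · have hz0 : blkP (mkPt z hz) ≠ 0 := by show Dia.blk z ≠ 0; omega
      exact (Relation.ReflTransGen.single ⟨hA0, hz0, hc pA (mkPt z hz) h1⟩).tail
        ⟨hz0, by omega, hc (mkPt z hz) y h2⟩
  · intro m x hm hx ih y hy
    obtain ⟨hlt, hm0, hm'⟩ := gen_block e hm
    rw [show mkPt (m : ℕ) hlt = m from Fin.ext rfl] at hm0 hm'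
    rw [hm' x hx] at hy
    have hy0 : blkP y ≠ 0 := by
      rcases blk_range hx with h | h | h <;> rw [h] at hy <;> rw [hy] <;>
        unfold Dia.swapB <;> cases Nat.beq (m : ℕ) 43 <;> cases Nat.beq (m : ℕ) 132 <;> simp
    have := linked_map e (member_mem_diaFix e hm0) (ih (y := pm e (member e m) y)
      (by rw [hm' y hy0, hy, swapB_swapB _ (blk_range hx)]))
    rwa [pm_pm_member] at this

theorem blk_eq_of_linked {x y : Pt} (h : Linked e x y) : blkP y = blkP x := by
  induction h with
  | refl => rfl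
  | tail _ hpq ih => rw [blk_eq_of_commute e hpq.1 hpq.2.1 hpq.2.2, ih]

/-- An element fixed by `dia e` permutes the blocks. -/
theorem blk_congr {g : G} (hg : g ∈ diaFix e) {x y : Pt} (hx : blkP x ≠ 0)
    (h : blkP y = blkP x) : blkP (pm e g y) = blkP (pm e g x) :=
  blk_eq_of_linked e (linked_map e hg (linked_of_blk e hx h))

/-- A point of each block. -/
def rep (i : Fin 3) : Pt := ![pA, mkPt 16 (by norm_num), mkPt 27 (by norm_num)] i

theorem blk_rep (i : Fin 3) : blkP (rep i) = (i : ℕ) + 1 := by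
  fin_cases i
  · show Dia.blk 43 = 1
    decide +kernel
  · show Dia.blk 16 = 2
    decide +kernel
  · show Dia.blk 27 = 3
    decide +kernel

/-- The block of the image of a block. -/
noncomputable def bimg (g : diaFix e) (i : Fin 3) : Fin 3 :=
  ⟨blkP (pm e (g : G) (rep i)) - 1, by
    rcases blk_range (fix_map e g.2 (x := rep i) (by rw [blk_rep]; omega)) with h | h | h <;> omega⟩

theorem bimg_spec (g : diaFix e) {x : Pt} {i : Fin 3} (h : blkP x = (i : ℕ) + 1) :
    blkP (pm e (g : G) x) = (bimg e g i : ℕ) + 1 := by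
  have h0 := fix_map e g.2 (x := rep i) (by rw [blk_rep]; omega)
  rw [blk_congr e g.2 (x := rep i) (by rw [blk_rep]; omega) (h.trans (blk_rep i).symm)]
  show _ = blkP (pm e (g : G) (rep i)) - 1 + 1
  omega

theorem bimg_mul (g h : diaFix e) (i : Fin 3) : bimg e (g * h) i = bimg e g (bimg e h i) := by
  have k := bimg_spec e g (bimg_spec e h (blk_rep i))
  rw [← pm_mul, ← Subgroup.coe_mul, bimg_spec e (g * h) (blk_rep i)] at k
  exact Fin.ext (by omega)

theorem bimg_one (i : Fin 3) : bimg e 1 i = i := by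
  have k := bimg_spec e 1 (blk_rep i)
  rw [Subgroup.coe_one, pm_one, blk_rep] at k
  exact Fin.ext (by omega)

/-- The action on the blocks. -/
noncomputable def bperm : diaFix e →* Equiv.Perm (Fin 3) where
  toFun g :=
    { toFun := bimg e g
      invFun := bimg e g⁻¹
      left_inv := fun i => by rw [← bimg_mul, inv_mul_cancel, bimg_one]
      right_inv := fun i => by rw [← bimg_mul, mul_inv_cancel, bimg_one] }
  map_one' := Equiv.ext fun i => bimg_one e i
  map_mul' g h := Equiv.ext fun i => bimg_mul e g h i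

theorem bperm_eq_iff (g : diaFix e) (σ : Equiv.Perm (Fin 3)) :
    bperm e g = σ ↔ ∀ i, blkP (pm e (g : G) (rep i)) = (σ i : ℕ) + 1 := by
  refine ⟨fun h i => ?_, fun h => Equiv.ext fun i => Fin.ext ?_⟩
  · rw [← h]; exact bimg_spec e g (blk_rep i)
  · show blkP (pm e (g : G) (rep i)) - 1 = _
    rw [h i, Nat.add_sub_cancel]

end Cfsg.Agent.Fi22Local
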