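import Cfsg.Agent.Lib.OrthH1.Engine
import Cfsg.Agent.Lib.ClassicalSimple.OrthRefl
import Cfsg.Agent.Lib.QForm.MaximalSingular
import Cfsg.Agent.Lib.Fi22Local.DiaChecks

/-!
# The hyperbolic space of dimension eight over two elements, coded by bits

`closure_rf`: reflections of non-singular codes generate the isometry group (any coding, unless the
dimension is four).
-/

set_option autoImplicit false

namespace Cfsg.Agent.Fi22Local

open Cfsg Cfsg.Agent.OrthH1 Cfsg.Agent.ClassicalSimple
open scoped Matrix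

section general

variable {ι : Type} [Fintype ι] [DecidableEq ι] {n : ℕ} (en : ι ≃ Fin n)
  {f : (ι → ZMod 2) → ZMod 2} (Q : QuadraticForm (ZMod 2) (ι → ZMod 2)) (hQ : ∀ v, Q v = f v)

/-- The code of a vector. -/
def encode (v : ι → ZMod 2) : ℕ := Nat.ofBits fun k => decide (v (en.symm k) = 1)

theorem encode_lt (v : ι → ZMod 2) : encode en v < 2 ^ n := Nat.ofBits_lt_two_pow _

theorem code_encode (v : ι → ZMod 2) : code en (encode en v) = v := by
  funext i
  rw [code, encode, Nat.testBit_ofBits_lt _ _ (en i).isLt]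
  simp only [Fin.eta, Equiv.symm_apply_apply, decide_eq_true_eq]
  generalize v i = c
  revert c; decide

theorem encode_code {u : ℕ} (hu : u < 2 ^ n) : encode en (code en u) = u := by
  refine Nat.eq_of_testBit_eq fun k => ?_
  by_cases hk : k < n
  · rw [encode, Nat.testBit_ofBits_lt _ _ hk]
    show decide (code en u (en.symm ⟨k, hk⟩) = 1) = _
    rw [code, Equiv.apply_symm_apply]
    cases u.testBit k <;> decide
  · rw [Nat.testBit_lt_two_pow (lt_of_lt_of_le (encode_lt en _) (Nat.pow_le_pow_right (by norm_num)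
      (by omega))), Nat.testBit_lt_two_pow (lt_of_lt_of_le hu (Nat.pow_le_pow_right (by norm_num)
      (by omega)))]

/-- The reflections of non-singular codes generate. -/
theorem closure_rf (hN : (bil Q).Nondegenerate) (h4 : Fintype.card ι ≠ 4) :
    Subgroup.closure ((rf en Q hQ) '' {u | u < 2 ^ n ∧ f (code en u) ≠ 0}) = ⊤ := by
  have htop := closure_orefl_eq_top (Q := Q) hN
    (Or.inr (by rwa [Module.finrank_fintype_fun_eq_card]))
  rw [eq_top_iff, ← Subgroup.map_top_of_surjective (toOQ Q hQ).symm.toMonoidHom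
    (toOQ Q hQ).symm.surjective, ← htop, MonoidHom.map_closure]
  refine Subgroup.closure_mono ?_
  rintro _ ⟨_, ⟨b, hb, rfl⟩, rfl⟩
  refine ⟨encode en b, ⟨encode_lt en b, by rw [code_encode, ← hQ]; exact hb⟩, ?_⟩
  obtain ⟨u, hu⟩ : ∃ u, u = encode en b := ⟨_, rfl⟩
  rw [← hu]
  have hb' : code en u = b := by rw [hu, code_encode]
  subst hb'
  rw [rf, dif_pos hb]
  rfl

/-- The action of an isometry. -/
abbrev act (M : ↥(isometryGroup (ZMod 2) f)) (v : ι → ZMod 2) : ι → ZMod 2 := matHom M *ᵥ v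

theorem act_mul (M N : ↥(isometryGroup (ZMod 2) f)) (v : ι → ZMod 2) :
    act (M * N) v = act M (act N v) := by
  rw [act, map_mul, ← Matrix.mulVec_mulVec]

theorem act_one (v : ι → ZMod 2) : act (1 : ↥(isometryGroup (ZMod 2) f)) v = v := by
  rw [act, map_one, Matrix.one_mulVec]

theorem act_add (M : ↥(isometryGroup (ZMod 2) f)) (u v : ι → ZMod 2) :
    act M (u + v) = act M u + act M v := Matrix.mulVec_add _ _ _

theorem act_form (M : ↥(isometryGroup (ZMod 2) f)) (v : ι → ZMod 2) : f (act M v) = f v := M.2 v v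

theorem eq_of_act {M N : ↥(isometryGroup (ZMod 2) f)} (h : ∀ v, act M v = act N v) : M = N :=
  Subtype.ext (Units.ext (Matrix.ext_of_mulVec_single fun i => h (Pi.single i 1)))

end general

/-- The indices. -/
abbrev I8 : Type := Fin 4 ⊕ Fin 4

/-- The coding. -/
abbrev en8 : I8 ≃ Fin (4 + 4) := finSumFinEquiv

/-- The form. -/
noncomputable abbrev PF8 : QuadraticForm (ZMod 2) (I8 → ZMod 2) := QForm.plusForm (ZMod 2) 4

theorem hPF8 (v : I8 → ZMod 2) : PF8 v = quadFormPlus 4 (ZMod 2) v := QForm.plusForm_apply _ 4 v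

theorem nondeg8 : (bil PF8).Nondegenerate :=
  bil_nondegenerate _ (QForm.plusForm_nondegenerate (ZMod 2) 4)

/-- Its isometry group. -/
abbrev O8 : Type := ↥(isometryGroup (ZMod 2) (quadFormPlus 4 (ZMod 2)))

/-- The reflection of a code. -/
noncomputable abbrev R8 (u : ℕ) : O8 := rf en8 PF8 hPF8 u

theorem form_code {u : ℕ} (hu : u < 256) :
    quadFormPlus 4 (ZMod 2) (code en8 u) = if Dia.qc u then 1 else 0 := by
  have h : ∀ u ∈ List.range 256,
      quadFormPlus 4 (ZMod 2) (code en8 u) = if Dia.qc u then 1 else 0 := by decide +kernel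
  exact h u (List.mem_range.2 hu)

theorem mem_ns {u : ℕ} : u ∈ Dia.ns ↔ u < 256 ∧ quadFormPlus 4 (ZMod 2) (code en8 u) ≠ 0 := by
  rw [Dia.ns, List.mem_filter, List.mem_range]
  refine and_congr_right fun hu => ?_
  rw [form_code hu]
  cases Dia.qc u <;> simp

theorem xor_lt256 {u v : ℕ} (hu : u < 256) (hv : v < 256) : u ^^^ v < 256 :=
  Nat.xor_lt_two_pow (n := 8) hu hv

theorem ns_lt {u : ℕ} (hu : u ∈ Dia.ns) : u < 256 := (mem_ns.1 hu).1

theorem stepN8 {u x : ℕ} (hu : u ∈ Dia.ns) (hx : x < 256) :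
    stepN en8 (quadFormPlus 4 (ZMod 2)) u x = bif Dia.bc u x then x ^^^ u else x := by
  have hu' := ns_lt hu
  have hq : Dia.qc u = true := by
    have := (mem_ns.1 hu).2
    rw [form_code hu'] at this
    by_contra h
    exact this (if_neg h)
  rw [stepN, if_neg (mem_ns.1 hu).2, form_code (xor_lt256 hx hu'), form_code hx, form_code hu', Dia.bc,
    Nat.xor_comm u x, hq]
  cases Dia.qc (x ^^^ u) <;> cases Dia.qc x <;>
    simp [show (1 : ZMod 2) + 1 = 0 from rfl]

theorem R8_act {u x : ℕ} (hu : u ∈ Dia.ns) (hx : x < 256) :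
    act (R8 u) (code en8 x) = code en8 (bif Dia.bc u x then x ^^^ u else x) := by
  rw [act, rf_apply, stepN8 hu hx]

theorem R8_sq (u : ℕ) : R8 u * R8 u = 1 := rf_sq en8 PF8 hPF8 u

theorem closure_R8 : Subgroup.closure (R8 '' {u | u ∈ Dia.ns}) = ⊤ := by
  have := closure_rf en8 PF8 hPF8 nondeg8 (by simp)
  rwa [show {u | u < 2 ^ (4 + 4) ∧ quadFormPlus 4 (ZMod 2) (code en8 u) ≠ 0} = {u | u ∈ Dia.ns} from
    Set.ext fun u => mem_ns.symm] at this

/-- A linear map fixing the non-singular vectors is the identity. -/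
theorem eq_one_of_fix {M : O8} (h : ∀ u ∈ Dia.ns, act M (code en8 u) = code en8 u) : M = 1 := by
  refine eq_of_act fun v => ?_
  rw [act_one]
  obtain ⟨x, hx, rfl⟩ := code_surjective en8 v
  have hall : ∀ x ∈ List.range 256, x = 0 ∨ Dia.qc x ∨
      ∃ u ∈ Dia.ns, Dia.qc (x ^^^ u) := by decide +kernel
  rcases hall x (List.mem_range.2 hx) with rfl | hq | ⟨u, hu, hq⟩
  · rw [show code en8 0 = 0 from funext fun i => by simp [code], act, Matrix.mulVec_zero]
  · exact h x (by rw [Dia.ns, List.mem_filter]; exact ⟨List.mem_range.2 hx, hq⟩)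
  · have h2 := h _ (show x ^^^ u ∈ Dia.ns by
      rw [Dia.ns, List.mem_filter]; exact ⟨List.mem_range.2 (xor_lt256 hx (ns_lt hu)), hq⟩)
    rw [code_xor, act_add, h u hu] at h2
    exact add_right_cancel h2

end Cfsg.Agent.Fi22Local
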