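import Cfsg.Agent.Lib.Fi22Local.DiaBlocks
import Cfsg.Agent.Lib.Fi22Local.DiaCode
import Cfsg.Agent.Lib.Transpos.M22OuterChart

/-!
# The first block is the orthogonal space of dimension eight

`mu u`: the member of a non-singular code.  `psi`: the embedding of `GO₈⁺(2)` in `G` with the
reflections going to the members of the first block (`psi_R8`); its image lies in `diaFix e`.
-/

set_option autoImplicit false
set_option maxRecDepth 20000

namespace Cfsg.Agent.Fi22Local

open Cfsg Cfsg.Spor Cfsg.Agent.Presented Cfsg.Agent.Presented.FiIndex Cfsg.Agent.OrthH1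
open Cfsg.Agent.Transpos (OuterAt fixedDc fixedMem Dc)
open scoped Matrix

variable {G : Type*} [Group G] (e : Fi22 ≃* G)

/-- The point of a code, 43 if singular. -/
noncomputable def cpt (u : ℕ) : Pt :=
  if h : Dia.ptOf u < 3510 then mkPt _ h else pA

/-- The member of a code. -/
noncomputable def mu (u : ℕ) : G := member e (cpt u)

theorem cpt_val {u : ℕ} (hu : u ∈ Dia.ns) : (cpt u : ℕ) = Dia.ptOf u := by
  rw [cpt, dif_pos (Dia.ptOf_lt hu).1]
  rfl

theorem blk_cpt {u : ℕ} (hu : u ∈ Dia.ns) : blkP (cpt u) = 1 := by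
  rw [blkP, cpt_val hu]
  exact (Dia.ptOf_lt hu).2

theorem mu_mem {u : ℕ} (hu : u ∈ Dia.ns) : mu e u ∈ diaFix e :=
  member_mem_diaFix e (by rw [blk_cpt hu]; norm_num)

theorem cpt_88 : cpt 0x88 = pA := Fin.ext ((cpt_val Dia.ptOf_values.2.2.1).trans Dia.ptOf_values.1)

theorem mu_88 : mu e 0x88 = mA e := by rw [mu, cpt_88]; rfl

theorem mu_44 : mu e 0x44 = mB e := by
  rw [mu, show cpt 0x44 = pB from
    Fin.ext ((cpt_val Dia.ptOf_values.2.2.2).trans Dia.ptOf_values.2.1)]
  rfl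

theorem mu_sq (u : ℕ) : mu e u * mu e u = 1 := member_mul_self e _

theorem mu_inv (u : ℕ) : (mu e u)⁻¹ = mu e u := member_inv e _

theorem mu_inj {u v : ℕ} (hu : u ∈ Dia.ns) (hv : v ∈ Dia.ns) (h : mu e u = mu e v) : u = v :=
  Dia.ptOf_inj hu hv (by rw [← cpt_val hu, ← cpt_val hv, member_injective e h])

theorem exists_code {x : Pt} (hx : blkP x = 1) : ∃ u ∈ Dia.ns, cpt u = x := by
  obtain ⟨u, hu, h⟩ := Dia.ptOf_surj (lt_of_lt_of_eq x.2 cert_N) hx
  exact ⟨u, hu, Fin.ext ((cpt_val hu).trans h)⟩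

theorem act8_form (M : O8) (v : I8 → ZMod 2) :
    quadFormPlus 4 (ZMod 2) (act M v) = quadFormPlus 4 (ZMod 2) v := M.2 v v

theorem image_mem_ns (M : O8) {u : ℕ} (hu : u ∈ Dia.ns) :
    encode en8 (act M (code en8 u)) ∈ Dia.ns :=
  mem_ns.2 ⟨encode_lt _ _, by rw [code_encode, act8_form]; exact (mem_ns.1 hu).2⟩

theorem refl_mem_ns {r v : ℕ} (hr : r ∈ Dia.ns) (hv : v ∈ Dia.ns) :
    (bif Dia.bc r v then v ^^^ r else v) ∈ Dia.ns := by
  have hr' := ns_lt hr
  have hv' := ns_lt hv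
  have hlt : (bif Dia.bc r v then v ^^^ r else v) < 256 := by
    cases Dia.bc r v
    · exact hv'
    · exact xor_lt256 hv' hr'
  refine mem_ns.2 ⟨hlt, ?_⟩
  rw [← R8_act hr hv', act8_form]
  exact (mem_ns.1 hv).2

theorem mu_conj {r v : ℕ} (hr : r ∈ Dia.ns) (hv : v ∈ Dia.ns) :
    mu e r * mu e v * (mu e r)⁻¹ = mu e (bif Dia.bc r v then v ^^^ r else v) := by
  have hw := refl_mem_ns hr hv
  rw [mu, mu, mu, member_conj]
  refine congrArg _ (Fin.ext ?_)
  rw [cpt_val hw]
  refine memAct_eq e ?_ (Dia.ptOf_lt hw).1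
  rw [cpt_val hr, cpt_val hv, Dia.refl_act hr hv]

/-- Pairs of an element and an isometry inducing the same permutation of the first block. -/
def relSub : Subgroup (G × O8) where
  carrier := {p | p.1 ∈ diaFix e ∧ ∀ u ∈ Dia.ns,
    p.1 * mu e u * p.1⁻¹ = mu e (encode en8 (act p.2 (code en8 u)))}
  one_mem' := ⟨one_mem _, fun u hu => by
    rw [Prod.fst_one, Prod.snd_one, act_one, encode_code en8 (ns_lt hu)]; group⟩
  mul_mem' := by
    rintro p q ⟨hp0, hp⟩ ⟨hq0, hq⟩
    refine ⟨mul_mem hp0 hq0, fun u hu => ?_⟩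
    have hu' : encode en8 (act q.2 (code en8 u)) ∈ Dia.ns :=
      image_mem_ns _ hu
    rw [Prod.fst_mul, Prod.snd_mul, act_mul, show p.1 * q.1 * mu e u * (p.1 * q.1)⁻¹ =
      p.1 * (q.1 * mu e u * q.1⁻¹) * p.1⁻¹ by group, hq u hu, hp _ hu', code_encode]
  inv_mem' := by
    rintro p ⟨hp0, hp⟩
    refine ⟨inv_mem hp0, fun u hu => ?_⟩
    have hu' : encode en8 (act p.2⁻¹ (code en8 u)) ∈ Dia.ns :=
      image_mem_ns _ hu
    have k := hp _ hu'
    rw [code_encode, ← act_mul, mul_inv_cancel, act_one, encode_code en8 (ns_lt hu)] at k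
    rw [Prod.fst_inv, Prod.snd_inv, ← k]
    group

/-- The pairs generated by the members and their reflections. -/
noncomputable def gammaSub : Subgroup (G × O8) :=
  Subgroup.closure ((fun u => (mu e u, R8 u)) '' {u | u ∈ Dia.ns})

theorem gammaSub_le : gammaSub e ≤ relSub e := by
  rw [gammaSub, Subgroup.closure_le]
  rintro _ ⟨u, hu, rfl⟩
  refine ⟨mu_mem e hu, fun v hv => ?_⟩
  rw [R8_act hu (ns_lt hv), encode_code en8 (ns_lt (refl_mem_ns hu hv)), mu_conj e hu hv]

variable [Finite G] (H : Transpos.M22 (Set.range (member e)))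
include H

theorem outerAt_dia : OuterAt (Set.range (member e)) (mA e) (dia e) := by
  have : Nonempty (Set.range (member e)) := ⟨⟨mA e, pA, rfl⟩⟩
  refine ⟨H.preserves_aut _, dia_mA e, dia_dia e, H.not_inner_of_four (dia_dia e) ?_⟩
  rw [show fixedMem (Set.range (member e)) (dia e) = _ from rfl]
  exact (card_dia e).symm ▸ (by norm_num)

/-- Only the identity centralises the first block. -/
theorem eq_one_of_commute_block {g : G} (hg : ∀ u ∈ Dia.ns, Commute g (mu e u)) : g = 1 := by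
  have hA : (0x88 : ℕ) ∈ Dia.ns := Dia.ptOf_values.2.2.1
  rcases H.eq_one_or_of_fixes (a := mA e) ⟨pA, rfl⟩ (outerAt_dia e H) (card_dia_dc e)
    (g := g) (mu_88 e ▸ hg _ hA) (fun x hx => by
      obtain ⟨⟨⟨y, rfl⟩, -, hc⟩, hf⟩ := hx
      have hy := (dia_fix_iff e y).1 hf
      have h1 : blkP y = 1 := (blk_eq_of_commute e (x := pA) (by rw [← cpt_88, blk_cpt hA]; norm_num) hy
        hc).trans (by rw [← cpt_88, blk_cpt hA])
      obtain ⟨u, hu, rfl⟩ := exists_code h1
      exact hg u hu) with h | h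
  · exact h
  exfalso
  subst h
  have h19 : (0x19 : ℕ) ∈ Dia.ns ∧ (bif Dia.bc 0x88 0x19 then 0x19 ^^^ 0x88 else 0x19) ≠ 0x19 := by
    decide
  refine h19.2 (mu_inj e (refl_mem_ns hA h19.1) h19.1 ?_)
  rw [← mu_conj e hA h19.1, mu_88, (hg _ h19.1).eq, mul_inv_cancel_right]

/-- Each isometry comes from a unique pair. -/
theorem gamma_bijective :
    Function.Bijective ((MonoidHom.snd G O8).comp (gammaSub e).subtype) := by
  constructor
  · refine (injective_iff_map_eq_one _).2 fun p hp => ?_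
    change p.1.2 = 1 at hp
    refine Subtype.ext (Prod.ext (eq_one_of_commute_block e H fun u hu => ?_) hp)
    have k := (gammaSub_le e p.2).2 u hu
    rw [hp, act_one, encode_code en8 (ns_lt hu)] at k
    exact mul_inv_eq_iff_eq_mul.1 k
  · refine MonoidHom.range_eq_top.1 (eq_top_iff.2 ?_)
    rw [← closure_R8, Subgroup.closure_le]
    rintro _ ⟨u, hu, rfl⟩
    exact ⟨⟨_, Subgroup.subset_closure ⟨u, hu, rfl⟩⟩, rfl⟩

/-- The embedding of the isometry group. -/
noncomputable def psi : O8 →* G :=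
  ((MonoidHom.fst G O8).comp (gammaSub e).subtype).comp
    (MulEquiv.ofBijective _ (gamma_bijective e H)).symm.toMonoidHom

theorem psi_pair (M : O8) : (psi e H M, M) ∈ gammaSub e := by
  obtain ⟨p, hp⟩ : ∃ p, p = (MulEquiv.ofBijective _ (gamma_bijective e H)).symm M := ⟨_, rfl⟩
  have h2 : p.1.2 = M := by
    rw [hp]
    exact (MulEquiv.ofBijective _ (gamma_bijective e H)).apply_symm_apply M
  have h1 : psi e H M = p.1.1 := by rw [hp]; rfl
  rw [h1, ← h2]
  exact p.2

theorem psi_eq {g : G} {M : O8} (h : (g, M) ∈ gammaSub e) : psi e H M = g := by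
  have := (gamma_bijective e H).1 (a₁ := ⟨_, psi_pair e H M⟩) (a₂ := ⟨_, h⟩) rfl
  exact congrArg (fun p : gammaSub e => p.1.1) this

theorem psi_R8 {u : ℕ} (hu : u ∈ Dia.ns) : psi e H (R8 u) = mu e u :=
  psi_eq e H (Subgroup.subset_closure ⟨u, hu, rfl⟩)

theorem psi_mem (M : O8) : psi e H M ∈ diaFix e := (gammaSub_le e (psi_pair e H M)).1

theorem psi_conj (M : O8) {u : ℕ} (hu : u ∈ Dia.ns) :
    psi e H M * mu e u * (psi e H M)⁻¹ = mu e (encode en8 (act M (code en8 u))) :=
  (gammaSub_le e (psi_pair e H M)).2 u hu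

theorem psi_injective : Function.Injective (psi e H) := by
  refine (injective_iff_map_eq_one _).2 fun M hM => eq_one_of_fix fun u hu => ?_
  have k := psi_conj e H M hu
  rw [hM, one_mul, inv_one, mul_one] at k
  have hu' : encode en8 (act M (code en8 u)) ∈ Dia.ns :=
    image_mem_ns _ hu
  conv_rhs => rw [mu_inj e hu hu' k, code_encode]

end Cfsg.Agent.Fi22Local
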