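/-!
# Data for the 72 members fixed by the second twist of the diagram automorphism of Fi22

`ptP`: entries `2 v`, `2 v + 1` are the two points of the non-singular vector `v` of the elliptic space
of dimension six, coded by bits; `bT`: a basis; `stepP`: sums reaching all non-singular vectors from the
basis; `cfT`: the coordinate vectors in the basis.
-/

set_option autoImplicit false

namespace Cfsg.Agent.Fi22Local.DiaPairData

/-- The points. -/
def ptP : List Nat :=
    [3510, 3510, 3510, 3510, 3510, 3510, 3510, 3510, 3510, 3510, 43, 44, 3510, 3510, 47, 2608,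
    3510, 3510, 3510, 3510, 51, 2611, 421, 422, 3510, 3510, 533, 3499, 532, 534, 3510, 3510, 48,
    2609, 3003, 3047, 2691, 2692, 2947, 2962, 3114, 3127, 3510, 3510, 2717, 2792, 3510, 3510,
    587, 3503, 631, 812, 3510, 3510, 3510, 3510, 501, 661, 3510, 3510, 3510, 3510, 55, 2615, 50,
    2610, 752, 753, 54, 2614, 2552, 2556, 914, 917, 3510, 3510, 2310, 2318, 3510, 3510, 910,
    3497, 3113, 3126, 3510, 3510, 3510, 3510, 2987, 3044, 3510, 3510, 3510, 3510, 2338, 2339,
    529, 3498, 2311, 2319, 583, 3504, 3363, 3387, 2553, 2557, 3510, 3510, 3215, 3252, 3510, 3510,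
    1869, 1870, 2946, 2961, 3510, 3510, 3510, 3510, 2716, 2791, 3510, 3510, 3510, 3510, 916,
    3496]

/-- The basis. -/
def bT : List Nat := [5, 7, 10, 11, 16, 33]

/-- Sums: vector and its two terms. -/
def stepP : List (Nat × Nat × Nat) :=
    [(14, 5, 11), (36, 5, 33), (13, 7, 10), (38, 7, 33), (35, 7, 36), (44, 10, 38), (41, 10, 35),
    (47, 11, 36), (40, 11, 35), (34, 11, 41), (49, 16, 33), (52, 16, 36), (54, 16, 38),
    (51, 16, 35), (60, 16, 44), (57, 16, 41), (63, 16, 47), (56, 16, 40), (50, 16, 34),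
    (18, 33, 51), (24, 33, 57), (25, 33, 56), (19, 33, 50), (28, 5, 25), (22, 5, 19),
    (31, 7, 24), (20, 7, 19), (17, 7, 22), (48, 33, 17), (32, 49, 17)]

/-- Coordinates. -/
def cfT : List Nat := [12, 3, 13, 7, 16, 44]

end Cfsg.Agent.Fi22Local.DiaPairData
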