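import Cfsg.Agent.Lib.Fi22Local.DiagramCounts
import Cfsg.Agent.Lib.Fi22Local.DiaChecks
import Cfsg.Agent.Lib.Fi22Local.DiaPairData

/-!
# Kernel checks on the 36 pairs of members fixed by the second twist of the diagram automorphism

Facts about the numbers of points and of vectors only; the readings in a group are in `DiaPairs`.
-/

set_option autoImplicit false
set_option maxRecDepth 20000

namespace Cfsg.Agent.Fi22Local.Pair

open Cfsg.Spor Cfsg.Agent.Presented DiaPairData

/-- The elliptic quadratic form on codes. -/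
def qc6 (v : ℕ) : Bool :=
  xor (xor (v.testBit 0 && v.testBit 2) (v.testBit 1 && v.testBit 3))
    (xor (v.testBit 4) (xor (v.testBit 4 && v.testBit 5) (v.testBit 5)))

/-- The polar form on codes. -/
def bc6 (u v : ℕ) : Bool := xor (qc6 (u ^^^ v)) (xor (qc6 u) (qc6 v))

/-- The codes of the non-singular vectors. -/
def n6 : List ℕ := (List.range 64).filter qc6

/-- The two points of a vector. -/
def pt6 (v : ℕ) (i : Bool) : ℕ := ptP.getD (2 * v + i.toNat) 3510

/-- Whether the reflection in `v` crosses the pairs of `w` and `v + w`. -/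
noncomputable def c6 (v w : ℕ) : Bool :=
  Nat.beq (memAct fuel (pt6 v false) (pt6 w false)) (pt6 (v ^^^ w) true)

/-- The vector of a point. -/
def lab (x : ℕ) : ℕ :=
  (n6.find? fun v => Nat.beq (pt6 v false) x || Nat.beq (pt6 v true) x).getD 0

theorem pt6_ok {v : ℕ} (hv : v ∈ n6) (i : Bool) :
    pt6 v i < 3510 ∧ dAB (pt6 v i) = pt6 v i ∧ lab (pt6 v i) = v := by
  have h : n6.all (fun v => [false, true].all fun i => force (pt6 v i) fun x =>
      Nat.blt x 3510 && Nat.beq (dAB x) x && Nat.beq (lab x) v) = true := by decide +kernel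
  have k := List.all_eq_true.1 (List.all_eq_true.1 h v hv) i (by cases i <;> simp)
  simpa [Nat.blt_eq, and_assoc] using k

theorem pt6_ne {v : ℕ} (hv : v ∈ n6) : pt6 v false ≠ pt6 v true := by
  have h : n6.all (fun v => !Nat.beq (pt6 v false) (pt6 v true)) = true := by decide +kernel
  simpa [← Bool.not_eq_true] using List.all_eq_true.1 h v hv

theorem pt6_all {x : ℕ} (hx : x < 3510) (h : dAB x = x) : ∃ v ∈ n6, ∃ i, pt6 v i = x := by
  have k : checkBelow (fun x => !Nat.beq (dAB x) x ||
      n6.any fun v => Nat.beq (pt6 v false) x || Nat.beq (pt6 v true) x) 12 3510 = true := by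
    rw [checkBelow_fast]; decide +kernel
  have k' := checkBelow_spec k x hx
  simp only [Bool.or_eq_true, Bool.not_eq_true', ← Bool.not_eq_true, Nat.beq_eq, h,
    not_true_eq_false, false_or, List.any_eq_true] at k'
  obtain ⟨v, hv, hi⟩ := k'
  exact ⟨v, hv, hi.elim (fun e => ⟨false, e⟩) fun e => ⟨true, e⟩⟩

/-- The images of the pairs under the members. -/
theorem act6 {v w : ℕ} (hv : v ∈ n6) (hw : w ∈ n6) (i j : Bool) :
    memAct fuel (pt6 v i) (pt6 w j) =
      bif bc6 v w then pt6 (v ^^^ w) (xor (xor i j) (c6 v w)) else pt6 w j := by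
  have h : n6.all (fun v => n6.all fun w => [false, true].all fun i => [false, true].all fun j =>
      Nat.beq (memAct fuel (pt6 v i) (pt6 w j))
        (bif bc6 v w then pt6 (v ^^^ w) (xor (xor i j) (c6 v w)) else pt6 w j)) = true := by
    decide +kernel
  have k := List.all_eq_true.1 (List.all_eq_true.1 (List.all_eq_true.1
    (List.all_eq_true.1 h v hv) w hw) i (by cases i <;> simp)) j (by cases j <;> simp)
  simpa using k

theorem bc6_self {v : ℕ} (hv : v ∈ n6) : bc6 v v = false := by
  have h : n6.all (fun v => !bc6 v v) = true := by decide +kernel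
  simpa using List.all_eq_true.1 h v hv

/-- A sum along an edge. -/
theorem edge {v w : ℕ} (hv : v ∈ n6) (hw : w ∈ n6) (hb : bc6 v w = true) :
    v ^^^ w ∈ n6 ∧ v ^^^ w ≠ w ∧ bc6 v (v ^^^ w) = true := by
  have h : n6.all (fun v => n6.all fun w =>
      !bc6 v w || (n6.contains (v ^^^ w) && !Nat.beq (v ^^^ w) w && bc6 v (v ^^^ w))) = true := by
    decide +kernel
  have k := List.all_eq_true.1 (List.all_eq_true.1 h v hv) w hw
  simpa [hb, ← Bool.not_eq_true, and_assoc] using k

/-- The polar form separates the non-singular vectors. -/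
theorem sep {v w : ℕ} (hv : v ∈ n6) (hw : w ∈ n6) (h : ∀ u ∈ n6, bc6 v u = bc6 w u) : v = w := by
  have k : n6.all (fun v => n6.all fun w =>
      Nat.beq v w || n6.any fun u => xor (bc6 v u) (bc6 w u)) = true := by decide +kernel
  have k' := List.all_eq_true.1 (List.all_eq_true.1 k v hv) w hw
  simp only [Bool.or_eq_true, Nat.beq_eq, List.any_eq_true] at k'
  rcases k' with k' | ⟨u, hu, hne⟩
  · exact k'
  · rw [h u hu, Bool.xor_self] at hne
    exact absurd hne Bool.false_ne_true

/-- The `k`th basis code. -/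
def bb (k : Fin 6) : ℕ := bT.getD k 0

theorem bb_mem (k : Fin 6) : bb k ∈ n6 := by revert k; decide +kernel

theorem steps6 {t : ℕ × ℕ × ℕ} (ht : t ∈ stepP) :
    t.2.1 ∈ n6 ∧ t.2.2 ∈ n6 ∧ bc6 t.2.1 t.2.2 = true ∧ t.2.1 ^^^ t.2.2 = t.1 := by
  have h : stepP.all (fun t => n6.contains t.2.1 && n6.contains t.2.2 && bc6 t.2.1 t.2.2 &&
      Nat.beq (t.2.1 ^^^ t.2.2) t.1) = true := by decide +kernel
  simpa [and_assoc] using List.all_eq_true.1 h t ht

/-- The vectors reached by the sums. -/
def reach : List (ℕ × ℕ × ℕ) → List ℕ → List ℕ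
  | [], seen => seen
  | (x, v, w) :: l, seen => reach l (bif seen.contains v && seen.contains w then x :: seen else seen)

theorem reach6_all : ∀ v ∈ n6, v ∈ reach stepP bT := by decide +kernel

theorem bT_bb : ∀ v ∈ bT, ∃ k, bb k = v := by decide +kernel

theorem n6_induction {P : ℕ → Prop} (hb : ∀ k, P (bb k))
    (hs : ∀ v ∈ n6, ∀ w ∈ n6, bc6 v w = true → P v → P w → P (v ^^^ w)) {x : ℕ} (hx : x ∈ n6) :
    P x := by
  suffices key : ∀ l, (∀ t ∈ l, t ∈ stepP) → ∀ seen : List ℕ, (∀ y ∈ seen, P y) →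
      ∀ y ∈ reach l seen, P y from
    key _ (fun t h => h) bT (fun y hy => by obtain ⟨k, rfl⟩ := bT_bb y hy; exact hb k) x (reach6_all x hx)
  intro l hl
  induction l with
  | nil => intro seen hs y hy; exact hs y hy
  | cons t l ih =>
    obtain ⟨a, v, w⟩ := t
    intro seen hseen y hy
    refine ih (fun t ht => hl t (List.mem_cons_of_mem _ ht)) _ (fun z hz => ?_) y hy
    cases hp : seen.contains v && seen.contains w with
    | false => rw [hp, cond_false] at hz; exact hseen z hz
    | true =>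
      rw [hp, cond_true, List.mem_cons] at hz
      rcases hz with rfl | hz
      · obtain ⟨h1, h2, h3, h4⟩ := steps6 (hl (z, v, w) List.mem_cons_self)
        simp only [Bool.and_eq_true, List.contains_eq_mem, decide_eq_true_eq] at hp
        dsimp only at h1 h2 h3 h4
        rw [← h4]
        exact hs v h1 w h2 h3 (hseen v hp.1) (hseen w hp.2)
      · exact hseen z hz

/-- Each vector is zero, non-singular or a sum of two perpendicular non-singular ones. -/
theorem kinds {x : ℕ} (hx : x < 64) :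
    x = 0 ∨ x ∈ n6 ∨ ∃ v ∈ n6, ∃ w ∈ n6, bc6 v w = false ∧ v ^^^ w = x := by
  have h : (List.range 64).all (fun x => Nat.beq x 0 || n6.contains x ||
      n6.any fun v => n6.any fun w => !bc6 v w && Nat.beq (v ^^^ w) x) = true := by decide +kernel
  simpa [or_assoc] using List.all_eq_true.1 h x (List.mem_range.2 hx)

/-- Two steps from a singular vector to each non-singular one. -/
theorem two_step {s w : ℕ} (hs : s < 64) (hs0 : s ≠ 0) (hq : qc6 s = false) (hw : w ∈ n6) :
    bc6 s w = true ∨ ∃ u ∈ n6, bc6 s u = true ∧ bc6 u w = true := by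
  have h : (List.range 64).all (fun s => Nat.beq s 0 || qc6 s ||
      n6.all fun w => bc6 s w || n6.any fun u => bc6 s u && bc6 u w) = true := by decide +kernel
  have k := List.all_eq_true.1 h s (List.mem_range.2 hs)
  simp only [Bool.or_eq_true, Nat.beq_eq, hs0, hq, Bool.false_eq_true, false_or, or_false,
    List.all_eq_true] at k
  simpa using k w hw

/-- The values of the polar form on the basis. -/
def pat (v : ℕ) (k : Fin 6) : ZMod 2 := bif bc6 v (bb k) then 1 else 0

theorem pat_span : ∀ k : Fin 6, (∃ v ∈ n6, ∀ l, pat v l = if l = k then 1 else 0) ∨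
    ∃ v ∈ n6, ∃ w ∈ n6, ∀ l, pat v l + pat w l = if l = k then 1 else 0 := by
  decide +kernel

/-- The first block vectors perpendicular to those of the two chosen members. -/
def perp2 : List ℕ := Dia.ns.filter fun u => !Dia.bc 0x88 u && !Dia.bc 0x44 u

theorem perp2_ok {u : ℕ} (hu : u ∈ perp2) :
    u ∈ Dia.ns ∧ Dia.bc 0x88 u = false ∧ Dia.bc 0x44 u = false := by
  simpa [perp2] using hu

theorem u21_ok : 21 ∈ Dia.ns ∧ Dia.bc 0x88 21 = false ∧ Dia.bc 0x44 21 = true ∧
    (21 ^^^ 0x44) ∈ Dia.ns ∧ Dia.bc 0x44 (21 ^^^ 0x44) = true := by decide +kernel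

theorem cand21 {x : ℕ} (hx : x ∈ Dia.ns) (ha : Dia.bc 0x88 x = false) (hb : Dia.bc 0x44 x = true)
    (h : ∀ w ∈ perp2, Dia.bc x w = Dia.bc 21 w) : x = 21 ∨ x = 21 ^^^ 0x44 := by
  have k : Dia.ns.all (fun x => Dia.bc 0x88 x || !Dia.bc 0x44 x ||
      perp2.any (fun w => xor (Dia.bc x w) (Dia.bc 21 w)) || Nat.beq x 21 ||
      Nat.beq x (21 ^^^ 0x44)) = true := by decide +kernel
  have k' := List.all_eq_true.1 k x hx
  simp only [ha, hb, Bool.not_true, Bool.false_or, Bool.or_eq_true, List.any_eq_true, Nat.beq_eq,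
    or_assoc] at k'
  rcases k' with ⟨w, hw, hne⟩ | k'
  · rw [h w hw, Bool.xor_self] at hne
    exact absurd hne Bool.false_ne_true
  · exact k'

theorem reach21 {u : ℕ} (hu : u ∈ Dia.ns) (ha : Dia.bc 0x88 u = false) :
    u ∈ perp2 ∨ u = 21 ∨ ∃ w ∈ perp2, Dia.bc w 21 = true ∧ (u = 21 ^^^ w ∨
      ∃ w' ∈ perp2, Dia.bc w' (21 ^^^ w) = true ∧ u = 21 ^^^ w ^^^ w') := by
  have k : Dia.ns.all (fun u => Dia.bc 0x88 u || perp2.contains u || Nat.beq u 21 ||
      perp2.any fun w => Dia.bc w 21 && (Nat.beq u (21 ^^^ w) ||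
        perp2.any fun w' => Dia.bc w' (21 ^^^ w) && Nat.beq u (21 ^^^ w ^^^ w'))) = true := by
    decide +kernel
  have k' := List.all_eq_true.1 k u hu
  simpa [ha, or_assoc] using k'

theorem p421 : dAB 421 = 421 ∧ dpi 421 ≠ 421 ∧
    memAct fuel 43 421 ≠ 421 ∧ memAct fuel 43 421 < 3510 ∧
    memAct fuel 44 421 ≠ 421 ∧ memAct fuel 44 421 < 3510 ∧ dAB 43 = 43 ∧ dAB 44 = 44 := by
  decide +kernel

end Cfsg.Agent.Fi22Local.Pair
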