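import Cfsg.Agent.Lib.Fi22Local.DiaPairs
import Cfsg.Agent.Lib.Fi22Local.DiaOrth

/-!
# Only the identity fixes the 72 members

An element fixed by the second twist which centralises all 72 members of the pairs is fixed by `dia e`
and, up to `mB`, centralises all 63 members of the first block commuting with `mA`.
-/

set_option autoImplicit false
set_option maxRecDepth 20000

namespace Cfsg.Agent.Fi22Local

open Cfsg.Spor Cfsg.Agent.Presented Cfsg.Agent.Presented.FiIndex
open Cfsg.Agent.Transpos (OuterAt fixedDc fixedMem Dc)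

variable {G : Type*} [Group G] (e : Fi22 ≃* G)

theorem commute_mu {u v : ℕ} (hu : u ∈ Dia.ns) (hv : v ∈ Dia.ns) :
    Commute (mu e u) (mu e v) ↔ Dia.bc u v = false := by
  rw [Commute, SemiconjBy, ← mul_inv_eq_iff_eq_mul, mu_conj e hu hv]
  constructor
  · intro h
    have k := mu_inj e (refl_mem_ns hu hv) hv h
    cases hb : Dia.bc u v
    · rfl
    · rw [hb, cond_true] at k
      have hu0 : u = 0 := by
        rw [show u = v ^^^ (v ^^^ u) by rw [← Nat.xor_assoc, Nat.xor_self, Nat.zero_xor], k, Nat.xor_self]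
      subst hu0
      revert hu; decide +kernel
  · intro h; rw [h, cond_false]

variable [Finite G] (H : Transpos.M22 (Set.range (member e)))
include H

theorem eq_one_of_fix_pairs {g : G} (hgC : g ∈ diaABFix e)
    (hg : ∀ x : Pt, dAB x = x → pm e g x = x) : g = 1 := by
  obtain ⟨hw0, hwd, hwA, hwA', hwB, hwB', hA43, hB44⟩ := Pair.p421
  obtain ⟨-, -, h88, h44⟩ := Dia.ptOf_values
  have fixed : ∀ x : Pt, dAB x = x → Commute g (member e x) := fun x hx => (fix_iff e g x).1 (hg x hx)
  have hcA : Commute g (mA e) := fixed pA hA43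
  have hcB : Commute g (mB e) := fixed pB hB44
  have theta : ∀ y, Commute (mA e * mB e) y → (dia e * MulAut.conj (mA e * mB e)) y = dia e y := by
    intro y h
    rw [MulAut.mul_apply, MulAut.conj_apply, h.eq, mul_inv_cancel_right]
  have hgd : g ∈ diaFix e := by
    rw [mem_diaFix, ← theta g (hcA.symm.mul_left hcB.symm)]
    exact hgC
  have hperp : ∀ u ∈ Pair.perp2, Commute g (mu e u) := by
    intro u hu
    obtain ⟨hu', ha, hb⟩ := Pair.perp2_ok hu
    refine fixed (cpt u) ((member_mem_diaABFix e).1 ?_)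
    rw [mem_diaABFix]
    show _ = mu e u
    have c : Commute (mA e * mB e) (mu e u) := by
      rw [← mu_88, ← mu_44]
      exact ((commute_mu e h88 hu').2 ha).mul_left ((commute_mu e h44 hu').2 hb)
    exact (theta (mu e u) c).trans ((mem_diaFix e).1 (mu_mem e hu'))
  obtain ⟨h21, h21a, h21b, h21', h21b'⟩ := Pair.u21_ok
  have hblk : blkP (pm e g (cpt 21)) = 1 := by
    rw [← blk_cpt h88]
    refine blk_eq_of_commute e (by rw [blk_cpt h88]; norm_num)
      (fix_map e hgd (by rw [blk_cpt h21]; norm_num)) ?_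
    rw [← (fix_iff e g (cpt 0x88)).2 (mu_88 e ▸ hcA : Commute g (mu e 0x88)), ← member_conj, ← member_conj]
    exact ((commute_mu e h88 h21).2 h21a).map (MulAut.conj g).toMonoidHom
  obtain ⟨x, hx, hxp⟩ := exists_code hblk
  have hgx : g * mu e 21 * g⁻¹ = mu e x := by rw [mu, member_conj, mu, hxp]
  have rel : ∀ u ∈ Dia.ns, Commute g (mu e u) → Dia.bc x u = Dia.bc 21 u := by
    intro u hu hc
    rw [Bool.eq_iff_iff, ← not_iff_not, Bool.not_eq_true, Bool.not_eq_true,
      ← commute_mu e hx hu, ← commute_mu e h21 hu, ← hgx]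
    refine ⟨fun h => ?_, fun h => ?_⟩
    · have := h.map (MulAut.conj g⁻¹).toMonoidHom
      simpa [MulAut.conj_apply, mul_assoc, hc.inv_left.eq] using this
    · have := h.map (MulAut.conj g).toMonoidHom
      simpa [MulAut.conj_apply, hc.eq, mul_assoc] using this
  have bsymm : ∀ u v : ℕ, Dia.bc u v = Dia.bc v u := fun u v => by
    rw [Dia.bc, Dia.bc, Nat.xor_comm, Bool.xor_comm (Dia.qc u)]
  have hxa : Dia.bc 0x88 x = false := by
    rw [bsymm, rel _ h88 (mu_88 e ▸ hcA), bsymm, h21a]
  have hxb : Dia.bc 0x44 x = true := by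
    rw [bsymm, rel _ h44 (mu_44 e ▸ hcB), bsymm, h21b]
  -- up to `mB` the element fixes one more member
  obtain ⟨k, hk, hcA', hperp', hk21⟩ : ∃ k, (k = g ∨ k = mB e * g) ∧ Commute k (mA e) ∧
      (∀ u ∈ Pair.perp2, Commute k (mu e u)) ∧ Commute k (mu e 21) := by
    rcases Pair.cand21 hx hxa hxb (fun w hw => rel w (Pair.perp2_ok hw).1 (hperp w hw)) with rfl | rfl
    · exact ⟨g, Or.inl rfl, hcA, hperp, mul_inv_eq_iff_eq_mul.1 hgx⟩
    · refine ⟨mB e * g, Or.inr rfl, (commute_mA_mB e).symm.mul_left hcA, fun u hu => ?_, ?_⟩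
      · obtain ⟨hu', -, hb⟩ := Pair.perp2_ok hu
        exact (mu_44 e ▸ (commute_mu e h44 hu').2 hb).mul_left (hperp u hu)
      · refine mul_inv_eq_iff_eq_mul.1 ?_
        rw [show mB e * g * mu e 21 * (mB e * g)⁻¹ = mB e * (g * mu e 21 * g⁻¹) * (mB e)⁻¹ by group, hgx,
          ← mu_44, mu_conj e h44 h21', h21b', cond_true,
          show 21 ^^^ 0x44 ^^^ 0x44 = 21 by decide]
  have step : ∀ r v, r ∈ Dia.ns → v ∈ Dia.ns → Dia.bc r v = true → Commute k (mu e r) →
      Commute k (mu e v) → Commute k (mu e (v ^^^ r)) := by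
    intro r v hr hv hb hcr hcv
    have h := mu_conj e hr hv
    rw [hb, cond_true] at h
    rw [← h]
    exact (hcr.mul_right hcv).mul_right hcr.inv_right
  have step_mem : ∀ r v, r ∈ Dia.ns → v ∈ Dia.ns → Dia.bc r v = true → v ^^^ r ∈ Dia.ns := by
    intro r v hr hv hb
    have h := refl_mem_ns hr hv
    rwa [hb, cond_true] at h
  have hall : ∀ u ∈ Dia.ns, Dia.bc 0x88 u = false → Commute k (mu e u) := by
    intro u hu ha
    rcases Pair.reach21 hu ha with h | rfl | ⟨w, hw, hwb, rfl | ⟨w', hw', hwb', rfl⟩⟩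
    · exact hperp' u h
    · exact hk21
    · exact step w 21 (Pair.perp2_ok hw).1 h21 hwb (hperp' w hw) hk21
    · exact step w' (21 ^^^ w) (Pair.perp2_ok hw').1
        (step_mem w 21 (Pair.perp2_ok hw).1 h21 hwb) hwb' (hperp' w' hw')
        (step w 21 (Pair.perp2_ok hw).1 h21 hwb (hperp' w hw) hk21)
  have hk1 := H.eq_one_or_of_fixes (a := mA e) ⟨pA, rfl⟩ (outerAt_dia e H) (card_dia_dc e)
    (g := k) hcA' (fun y hy => by
      obtain ⟨⟨⟨p, rfl⟩, -, hc⟩, hf⟩ := hy
      have hp := (dia_fix_iff e p).1 hf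
      have h1 : blkP p = 1 := (blk_eq_of_commute e (x := pA) (by rw [← cpt_88, blk_cpt h88]; norm_num) hp
        hc).trans (by rw [← cpt_88, blk_cpt h88])
      obtain ⟨u, hu, rfl⟩ := exists_code h1
      exact hall u hu ((commute_mu e h88 hu).1 (mu_88 e ▸ hc)))
  -- the other three possibilities move the member at 421
  have hc421 := fixed (mkPt 421 (by norm_num)) hw0
  have nA : ¬ Commute (mA e) (member e (mkPt 421 (by norm_num))) := fun h =>
    hwA ((commute_members e (x := pA) (z := mkPt 421 (by norm_num)) (r := memAct fuel 43 421) rfl hwA').1 h)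
  have nB : ¬ Commute (mB e) (member e (mkPt 421 (by norm_num))) := fun h =>
    hwB ((commute_members e (x := pB) (z := mkPt 421 (by norm_num)) (r := memAct fuel 44 421) rfl hwB').1 h)
  have nAB : ¬ Commute (mA e * mB e) (member e (mkPt 421 (by norm_num))) := fun h => by
    have h1 := theta _ h
    rw [(mem_diaABFix e).1 ((member_mem_diaABFix e (x := mkPt 421 (by norm_num))).2 hw0), dia_member, (member_injective e).eq_iff, Fin.ext_iff] at h1
    exact hwd h1.symm
  have hBB : mB e * mB e = 1 := member_mul_self e _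
  rcases hk with rfl | rfl <;> rcases hk1 with h | h
  · exact h
  · exact absurd (h ▸ hc421) nA
  · exact absurd ((show g = mB e by rw [eq_inv_of_mul_eq_one_right h, inv_eq_of_mul_eq_one_right hBB]) ▸
      hc421) nB
  · refine absurd ((show g = mA e * mB e by
      rw [(commute_mA_mB e).eq, ← h, ← mul_assoc, hBB, one_mul]) ▸ hc421) nAB

end Cfsg.Agent.Fi22Local
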