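import Cfsg.Agent.Lib.Fi22Local.DiaPairOrth
import Cfsg.Agent.Lib.Fi22Local.DiaPairFaithful
import Cfsg.Agent.Lib.Components.Fitting
import Cfsg.Prelude.Def_Transfer

/-!
# The fixed subgroup of the second twist is `2⁶ : GO₆⁻(2)`

The kernel of `eta6` swaps points within the pairs; the swaps are additive along edges and the products
of the two members of a pair give all of them (`diaABFix_shape`).
-/

set_option autoImplicit false
set_option maxRecDepth 20000

namespace Cfsg.Agent.Fi22Local

open Cfsg Cfsg.Spor Cfsg.Agent.Presented Cfsg.Agent.Presented.FiIndex Cfsg.Agent.OrthH1 Pair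
open scoped Matrix

theorem xor_xor_self (v w : ℕ) : v ^^^ (v ^^^ w) = w := by
  rw [← Nat.xor_assoc, Nat.xor_self, Nat.zero_xor]

variable {G : Type*} [Group G] (e : Fi22 ≃* G)

/-- Whether the points of the pair of `v` are exchanged. -/
noncomputable def swp (g : G) (v : ℕ) : Bool := decide (pm e g (q6 v false) = q6 v true)

/-- The elements fixing every pair. -/
def Fixes (g : G) : Prop := g ∈ diaABFix e ∧ ∀ v ∈ n6, sig e g v = v

theorem fixes_of_ker (g : (eta6 e).ker) : Fixes e ((g : diaABFix e) : G) :=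
  ⟨(g : diaABFix e).2, (mem_ker_eta6 e).1 g.2⟩

theorem pm_swp {g : G} (hg : Fixes e g) {v : ℕ} (hv : v ∈ n6) (i : Bool) :
    pm e g (q6 v i) = q6 v (xor i (swp e g v)) := by
  obtain ⟨j, hj⟩ := pm_sig e hg.1 hv false
  obtain ⟨k, hk⟩ := pm_sig e hg.1 hv true
  rw [hg.2 v hv] at hj hk
  have hjk : j ≠ k := fun h => by
    subst h
    exact Bool.false_ne_true (q6_inj hv hv (pm_injective e g (hj.trans hk.symm))).2
  have hs : swp e g v = j := by
    rw [swp, hj]
    cases j
    · exact decide_eq_false fun h => Bool.false_ne_true (q6_inj hv hv h).2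
    · exact decide_eq_true rfl
  cases i
  · rw [hj, Bool.false_xor, hs]
  · rw [hk, hs, Bool.true_xor]
    cases j <;> cases k <;> first | rfl | exact absurd rfl hjk

theorem swp_add {g : G} (hg : Fixes e g) {v w : ℕ} (hv : v ∈ n6) (hw : w ∈ n6)
    (hb : bc6 v w = true) : swp e g (v ^^^ w) = xor (swp e g v) (swp e g w) := by
  have hs := (edge hv hw hb).1
  have k := pm_member_pm e g (q6 v false) (q6 w false)
  rw [pm_swp e hg hv, pm_swp e hg hw, pm_q6 e hv hw, pm_q6 e hv hw, hb, cond_true, cond_true,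
    pm_swp e hg hs] at k
  have := (q6_inj hs hs k).2
  revert this
  cases swp e g v <;> cases swp e g w <;> cases swp e g (v ^^^ w) <;> cases c6 v w <;> simp

theorem swp_mul {g h : G} (hg : Fixes e g) (hh : Fixes e h) (hgh : Fixes e (g * h)) {v : ℕ}
    (hv : v ∈ n6) : swp e (g * h) v = xor (swp e g v) (swp e h v) := by
  have k := pm_swp e hgh hv false
  rw [pm_mul, pm_swp e hh hv, pm_swp e hg hv] at k
  have := (q6_inj hv hv k).2
  revert this
  cases swp e g v <;> cases swp e h v <;> cases swp e (g * h) v <;> simp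

/-- The product of a pair. -/
noncomputable def pairProd (v : ℕ) : G := member e (q6 v false) * member e (q6 v true)

theorem pm_pairProd {v w : ℕ} (hv : v ∈ n6) (hw : w ∈ n6) (j : Bool) :
    pm e (pairProd e v) (q6 w j) = q6 w (xor j (bc6 v w)) := by
  rw [pairProd, pm_mul, pm_q6 e hv hw]
  cases hb : bc6 v w
  · rw [cond_false, pm_q6 e hv hw, hb, cond_false, Bool.xor_false]
  · obtain ⟨hs, -, hb'⟩ := edge hv hw hb
    have k := pm_pm_member e (q6 v false) (q6 w false)
    rw [pm_q6 e hv hw, hb, cond_true, pm_q6 e hv hs, hb', cond_true, xor_xor_self] at k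
    have hc := (q6_inj hw hw k).2
    rw [cond_true, pm_q6 e hv hs, hb', cond_true, xor_xor_self]
    congr 1
    revert hc
    cases c6 v w <;> cases c6 v (v ^^^ w) <;> cases j <;> simp

theorem fixes_pairProd {v : ℕ} (hv : v ∈ n6) : Fixes e (pairProd e v) :=
  ⟨mul_mem (q6_fixed e hv false) (q6_fixed e hv true), fun w hw => by
    rw [sig, pm_pairProd e hv hw, lab_q6 hw]⟩

theorem swp_pairProd {v w : ℕ} (hv : v ∈ n6) (hw : w ∈ n6) :
    swp e (pairProd e v) w = bc6 v w := by
  have k := pm_swp e (fixes_pairProd e hv) hw false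
  rw [pm_pairProd e hv hw] at k
  simpa using ((q6_inj hw hw k).2).symm

theorem fixes_mem_ker {g : G} (hg : Fixes e g) : (⟨g, hg.1⟩ : diaABFix e) ∈ (eta6 e).ker :=
  (mem_ker_eta6 e).2 hg.2

/-- The swaps on the basis. -/
noncomputable def bitsHom : (eta6 e).ker →* Multiplicative (Fin 6 → ZMod 2) :=
  MonoidHom.mk' (fun g => Multiplicative.ofAdd fun k =>
    bif swp e ((g : diaABFix e) : G) (bb k) then 1 else 0) fun g h => by
    refine congrArg Multiplicative.ofAdd (funext fun k => ?_)
    show (bif swp e (((g : diaABFix e) : G) * ((h : diaABFix e) : G)) (bb k) then 1 else 0 : ZMod 2) =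
      (bif swp e ((g : diaABFix e) : G) (bb k) then 1 else 0) +
        (bif swp e ((h : diaABFix e) : G) (bb k) then 1 else 0)
    rw [swp_mul e (fixes_of_ker e g) (fixes_of_ker e h) (fixes_of_ker e (g * h)) (bb_mem k)]
    cases swp e ((g : diaABFix e) : G) (bb k) <;> cases swp e ((h : diaABFix e) : G) (bb k) <;>
      simp [show (1 : ZMod 2) + 1 = 0 from rfl]

theorem bitsHom_pairProd {v : ℕ} (hv : v ∈ n6) :
    bitsHom e ⟨_, fixes_mem_ker e (fixes_pairProd e hv)⟩ = Multiplicative.ofAdd (pat v) := by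
  refine congrArg Multiplicative.ofAdd (funext fun k => ?_)
  show (bif swp e (pairProd e v) (bb k) then 1 else 0 : ZMod 2) = _
  rw [swp_pairProd e hv (bb_mem k)]
  rfl

theorem bitsHom_surjective : Function.Surjective (bitsHom e) := by
  have hsingle : ∀ k : Fin 6, Multiplicative.ofAdd (Pi.single k (1 : ZMod 2)) ∈ (bitsHom e).range := by
    intro k
    rcases pat_span k with ⟨v, hv, h⟩ | ⟨v, hv, w, hw, h⟩
    · refine ⟨_, (bitsHom_pairProd e hv).trans (congrArg Multiplicative.ofAdd (funext fun l => ?_))⟩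
      rw [h l, Pi.single_apply]
    · refine ⟨⟨_, fixes_mem_ker e (fixes_pairProd e hv)⟩ * ⟨_, fixes_mem_ker e (fixes_pairProd e hw)⟩, ?_⟩
      rw [map_mul, bitsHom_pairProd e hv, bitsHom_pairProd e hw, ← ofAdd_add]
      refine congrArg Multiplicative.ofAdd (funext fun l => ?_)
      rw [Pi.add_apply, h l, Pi.single_apply]
  intro m
  show m ∈ (bitsHom e).range
  obtain ⟨f, rfl⟩ := Multiplicative.ofAdd.surjective m
  rw [← Finset.univ_sum_single f, ofAdd_sum]
  refine Subgroup.prod_mem _ fun k _ => ?_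
  have h01 : ∀ x : ZMod 2, x = 0 ∨ x = 1 := by decide
  rcases h01 (f k) with h | h <;> rw [h]
  · rw [Pi.single_zero, ofAdd_zero]
    exact one_mem _
  · exact hsingle k

variable [Finite G] (H : Transpos.M22 (Set.range (member e)))
include H

theorem bitsHom_injective : Function.Injective (bitsHom e) := by
  refine (injective_iff_map_eq_one _).2 fun g hg => Subtype.ext (Subtype.ext ?_)
  have hF := fixes_of_ker e g
  have h0 : ∀ v ∈ n6, swp e ((g : diaABFix e) : G) v = false := by
    intro v hv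
    refine (n6_induction (P := fun v => v ∈ n6 ∧ swp e ((g : diaABFix e) : G) v = false)
      (fun k => ⟨bb_mem k, ?_⟩) (fun v hv w hw hb h1 h2 => ⟨(edge hv hw hb).1, by
        rw [swp_add e hF hv hw hb, h1.2, h2.2]; rfl⟩) hv).2
    have := congrFun (congrArg Multiplicative.toAdd hg) k
    change (bif swp e ((g : diaABFix e) : G) (bb k) then 1 else 0 : ZMod 2) = 0 at this
    cases hs : swp e ((g : diaABFix e) : G) (bb k)
    · rfl
    · rw [hs] at this
      exact absurd this one_ne_zero
  refine eq_one_of_fix_pairs e H hF.1 fun x hx => ?_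
  obtain ⟨v, hv, i, rfl⟩ := exists_q6 hx
  rw [pm_swp e hF hv, h0 v hv, Bool.xor_false]

theorem card_ker_eta6 : Nat.card (eta6 e).ker = 64 := by
  rw [Nat.card_eq_of_bijective _ ⟨bitsHom_injective e H, bitsHom_surjective e⟩,
    Nat.card_congr Multiplicative.toAdd, Nat.card_pi]
  simp

/-- The image of a normal 2-subgroup is trivial. -/
theorem map_eq_bot (N : Subgroup (diaABFix e)) [hN : N.Normal] (hp : IsPGroup 2 N) :
    N ≤ (eta6 e).ker := by
  classical
  set M := N.map (eta6 e)
  have hM : M.Normal := hN.map _ (eta6_surjective e)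
  have hMp : IsPGroup 2 M := hp.map _
  let S := {x : I6m → ZMod 2 // x ≠ 0 ∧ Q6m x = 0}
  letI : MulAction M S :=
    { smul := fun n x => ⟨act (n : O6m) x.1, fun h => x.2.1 (by
          have := congrArg (act (n : O6m)⁻¹) h
          rwa [← act_mul, inv_mul_cancel, act_one, act, Matrix.mulVec_zero] at this),
        (act_form (n : O6m) x.1).trans x.2.2⟩
      one_smul := fun x => Subtype.ext (act_one _)
      mul_smul := fun a b x => Subtype.ext (act_mul (a : O6m) (b : O6m) x.1) }
  haveI : Fact (Nat.Prime 2) := ⟨Nat.prime_two⟩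
  have h27 : ¬ 2 ∣ Nat.card S := by
    rw [Nat.card_eq_fintype_card, show Fintype.card S = 27 by decide +kernel]
    norm_num
  obtain ⟨⟨x₀, hx0, hxq⟩, hx⟩ := hMp.nonempty_fixed_point_of_prime_not_dvd_card S h27
  obtain ⟨s, hs, rfl⟩ := code_surjective en6 x₀
  have hs' : s < 64 := hs
  let F : (I6m → ZMod 2) → Prop := fun x => ∀ n ∈ M, act n x = x
  have hF0 : F (code en6 s) := fun n hn => congrArg Subtype.val (hx ⟨n, hn⟩)
  have hs0 : s ≠ 0 := fun h => hx0 (by rw [h, code6_zero])
  have hq : qc6 s = false := by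
    rw [form_code6 hs'] at hxq
    by_contra h
    rw [if_pos (by simpa using h)] at hxq
    exact one_ne_zero hxq
  have next_fix : ∀ u ∈ n6, ∀ x < 64, bc6 x u = true → F (code en6 x) → F (code en6 u) := by
    intro u hu x hx hb hFx n hn
    have h1 := hFx _ (by simpa using hM.conj_mem n hn (rf en6 PF6 hPF6 u)⁻¹)
    have hbc : bc6 u x = true := by
      rw [← hb, bc6, bc6, Nat.xor_comm, Bool.xor_comm (qc6 u)]
    have hr : act (rf en6 PF6 hPF6 u) (code en6 x) = code en6 x + code en6 u := by
      rw [act, rf_apply, stepN6 hu hx, hbc, cond_true, code_xor]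
    rw [act_mul, act_mul] at h1
    have h2 := congrArg (act (rf en6 PF6 hPF6 u)) h1
    rw [← act_mul (rf en6 PF6 hPF6 u), mul_inv_cancel, act_one, hr, act_add, hFx n hn] at h2
    exact add_left_cancel h2
  have hall : ∀ u ∈ n6, F (code en6 u) := by
    intro u hu
    rcases two_step hs' hs0 hq hu with h | ⟨w, hw, h1, h2⟩
    · exact next_fix u hu s hs' h hF0
    · exact next_fix u hu w (mem_n6.1 hw).1 h2 (next_fix w hw s hs' h1 hF0)
  intro g hg
  refine MonoidHom.mem_ker.2 (eq_of_act fun v => ?_)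
  show matHom (eta6 e g) *ᵥ v = act 1 v
  rw [act_one, show matHom (eta6 e g) = 1 from ext_base6 fun k => by
    rw [Matrix.one_mulVec]
    exact hall _ (bb_mem k) _ ⟨g, hg, rfl⟩, Matrix.one_mulVec]

/-- The fixed subgroup of the second twist has the shape `2⁶ : GO₆⁻(2)`. -/
theorem diaABFix_shape : ∃ O : Subgroup G, O = (pCore 2 ↥(diaABFix e)).map (diaABFix e).subtype ∧
    IsElementaryAbelian 2 O ∧ Nat.card O = 64 ∧ ∃ _ : (O.subgroupOf (diaABFix e)).Normal,
      Nonempty (↥(diaABFix e) ⧸ O.subgroupOf (diaABFix e) ≃* O6m) := by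
  haveI : Fact (Nat.Prime 2) := ⟨Nat.prime_two⟩
  haveI := Components.pCore_normal' (G := ↥(diaABFix e)) 2
  have hcore : pCore 2 ↥(diaABFix e) = (eta6 e).ker :=
    le_antisymm (map_eq_bot e H _ (Components.isPGroup_pCore' 2))
      (le_sSup ⟨MonoidHom.normal_ker _, IsPGroup.of_card (n := 6) (card_ker_eta6 e H)⟩)
  refine ⟨_, rfl, ?_, ?_, ?_⟩
  · have hsq : ∀ x : (eta6 e).ker, x * x = 1 := fun x => bitsHom_injective e H (by
      rw [map_mul, map_one]
      refine Multiplicative.toAdd.injective (funext fun k => ?_)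
      exact CharTwo.add_self_eq_zero _)
    rw [hcore]
    refine ⟨⟨⟨fun a b => ?_⟩⟩, ?_⟩
    · obtain ⟨_, a, ha, rfl⟩ := a
      obtain ⟨_, b, hb, rfl⟩ := b
      have h : (⟨a, ha⟩ : (eta6 e).ker) * ⟨b, hb⟩ = ⟨b, hb⟩ * ⟨a, ha⟩ :=
        bitsHom_injective e H (by rw [map_mul, map_mul, mul_comm])
      exact Subtype.ext (congrArg (fun z : (eta6 e).ker => ((z : diaABFix e) : G)) h)
    · rintro _ ⟨a, ha, rfl⟩
      rw [← map_pow, pow_two]
      exact congrArg (fun z : (eta6 e).ker => ((z : diaABFix e) : G)) (hsq ⟨a, ha⟩)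
  · rw [hcore, Nat.card_congr ((eta6 e).ker.equivMapOfInjective _
      (diaABFix e).subtype_injective).toEquiv.symm]
    exact card_ker_eta6 e H
  · have hO : ((pCore 2 ↥(diaABFix e)).map (diaABFix e).subtype).subgroupOf (diaABFix e) = (eta6 e).ker := by
      rw [hcore, Subgroup.subgroupOf, Subgroup.comap_map_eq_self_of_injective (diaABFix e).subtype_injective]
    have hn : (((pCore 2 ↥(diaABFix e)).map (diaABFix e).subtype).subgroupOf (diaABFix e)).Normal := by
      rw [hO]; infer_instance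
    exact ⟨hn, ⟨(QuotientGroup.quotientMulEquivOfEq hO).trans
      (QuotientGroup.quotientKerEquivOfSurjective _ (eta6_surjective e))⟩⟩

end Cfsg.Agent.Fi22Local
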