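import Cfsg.Agent.Lib.Fi22Local.DiaPairs
import Cfsg.Agent.Lib.Fi22Local.DiaCode
import Cfsg.Agent.Lib.OrthH1.Certs
import Cfsg.Agent.Lib.Forms.Quad

/-!
# The fixed subgroup of the second twist maps onto `GO₆⁻(2)`

`eta6`: the linear map inducing the permutation `sig` of the 36 vectors; it is onto, since the members
of the pairs go to the reflections.
-/

set_option autoImplicit false
set_option maxRecDepth 20000

namespace Cfsg.Agent.Fi22Local

open Cfsg Cfsg.Spor Cfsg.Agent.Presented Cfsg.Agent.Presented.FiIndex Cfsg.Agent.OrthH1 Pair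
open Cfsg.Agent.ClassicalSimple (bil bil_nondegenerate)
open scoped Matrix

/-- The indices of the elliptic space. -/
abbrev I6m : Type := (Fin 2 ⊕ Fin 2) ⊕ Fin 2

/-- The coding of the elliptic space. -/
abbrev en6 : I6m ≃ Fin (2 + 2 + 2) := enMinus 2

/-- The elliptic form. -/
abbrev Q6m : (I6m → ZMod 2) → ZMod 2 := quadFormMinus 2 (ZMod 2) 1 1

/-- Its isometry group. -/
abbrev O6m : Type := ↥(isometryGroup (ZMod 2) Q6m)

/-- The elliptic form as a quadratic form. -/
noncomputable abbrev PF6 : QuadraticForm (ZMod 2) (I6m → ZMod 2) := Forms.quadMinus 2 (ZMod 2) 1 1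

theorem hPF6 (v : I6m → ZMod 2) : PF6 v = Q6m v := Forms.quadMinus_apply v

theorem nondeg6 : (bil PF6).Nondegenerate :=
  bil_nondegenerate _ (Forms.quadMinus_nondegenerate 2 (by decide))

theorem form_code6 {u : ℕ} (hu : u < 64) : Q6m (code en6 u) = if qc6 u then 1 else 0 := by
  have h : ∀ u ∈ List.range 64, Q6m (code en6 u) = if qc6 u then 1 else 0 := by decide +kernel
  exact h u (List.mem_range.2 hu)

theorem mem_n6 {u : ℕ} : u ∈ n6 ↔ u < 64 ∧ qc6 u = true := by
  rw [n6, List.mem_filter, List.mem_range]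

theorem code6_inj {u v : ℕ} (hu : u < 64) (hv : v < 64) (h : code en6 u = code en6 v) : u = v := by
  rw [← encode_code en6 (show u < 2 ^ (2 + 2 + 2) from hu), h,
    encode_code en6 (show v < 2 ^ (2 + 2 + 2) from hv)]

theorem code6_zero : code en6 0 = 0 := funext fun i => by simp [code]

/-- The coefficient of the basis code `k` in a coordinate vector. -/
def cf6 (y : I6m) (k : Fin 6) : ZMod 2 :=
  if (DiaPairData.cfT.getD (en6 y) 0).testBit k then 1 else 0

theorem base_coef6 : ∀ k k', ∑ y, cf6 y k' * code en6 (bb k) y = if k = k' then 1 else 0 := by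
  decide +kernel

theorem coef_base6 : ∀ x y, ∑ k, cf6 y k * code en6 (bb k) x = if x = y then 1 else 0 := by
  decide +kernel

theorem ext_base6 {A B : Matrix I6m I6m (ZMod 2)}
    (h : ∀ k, A *ᵥ code en6 (bb k) = B *ᵥ code en6 (bb k)) : A = B := by
  have key : ∀ C : Matrix I6m I6m (ZMod 2), ∀ x y,
      ∑ k, cf6 y k * (C *ᵥ code en6 (bb k)) x = C x y := by
    intro C x y
    simp only [Matrix.mulVec, dotProduct, Finset.mul_sum]
    rw [Finset.sum_comm]
    simp only [mul_left_comm (cf6 y _) (C x _), ← Finset.mul_sum, coef_base6, mul_ite, mul_one, mul_zero,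
      Finset.sum_ite_eq', Finset.mem_univ, if_true]
  ext x y
  rw [← key A, ← key B]
  simp only [h]

variable {G : Type*} [Group G] (e : Fi22 ≃* G)

/-- The matrix of an element. -/
noncomputable def mat6 (g : G) : Matrix I6m I6m (ZMod 2) :=
  Matrix.of fun x y => ∑ k, cf6 y k * code en6 (sig e g (bb k)) x

theorem mat6_code {g : G} (hg : g ∈ diaABFix e) {v : ℕ} (hv : v ∈ n6) :
    mat6 e g *ᵥ code en6 v = code en6 (sig e g v) := by
  refine (n6_induction (P := fun v => v ∈ n6 ∧ mat6 e g *ᵥ code en6 v = code en6 (sig e g v))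
    (fun k => ⟨bb_mem k, ?_⟩) (fun v hv w hw hb h1 h2 => ⟨(edge hv hw hb).1, ?_⟩) hv).2
  · funext x
    simp only [mat6, Matrix.mulVec, dotProduct, Matrix.of_apply, Finset.sum_mul]
    rw [Finset.sum_comm]
    simp only [mul_right_comm (cf6 _ _) _ (code en6 (bb k) _), ← Finset.sum_mul, base_coef6, ite_mul,
      one_mul, zero_mul, Finset.sum_ite_eq, Finset.mem_univ, if_true]
  · rw [code_xor, Matrix.mulVec_add, h1.2, h2.2, sig_add e hg hv hw hb, code_xor]

theorem mat6_one : mat6 e 1 = 1 :=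
  ext_base6 fun k => by rw [mat6_code e (one_mem _) (bb_mem k), sig_one e (bb_mem k), Matrix.one_mulVec]

theorem mat6_mul {g h : G} (hg : g ∈ diaABFix e) (hh : h ∈ diaABFix e) :
    mat6 e (g * h) = mat6 e g * mat6 e h :=
  ext_base6 fun k => by
    rw [mat6_code e (mul_mem hg hh) (bb_mem k), sig_mul e hg hh (bb_mem k), ← Matrix.mulVec_mulVec,
      mat6_code e hh (bb_mem k), mat6_code e hg (sig_mem e hh (bb_mem k))]

/-- The action on the elliptic space, by matrices. -/
noncomputable def matHom6 : diaABFix e →* Matrix I6m I6m (ZMod 2) where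
  toFun g := mat6 e g
  map_one' := mat6_one e
  map_mul' g h := mat6_mul e g.2 h.2

theorem form_mat6 {g : G} (hg : g ∈ diaABFix e) (x : I6m → ZMod 2) :
    Q6m (mat6 e g *ᵥ x) = Q6m x := by
  obtain ⟨u, hu, rfl⟩ := code_surjective en6 x
  have hu' : u < 64 := hu
  rcases kinds hu' with rfl | h | ⟨v, hv, w, hw, hb, rfl⟩
  · rw [code6_zero, Matrix.mulVec_zero]
  · have hs := mem_n6.1 (sig_mem e hg h)
    rw [mat6_code e hg h, form_code6 hs.1, form_code6 hu', hs.2, (mem_n6.1 h).2]
  · have hv' := mem_n6.1 (sig_mem e hg hv)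
    have hw' := mem_n6.1 (sig_mem e hg hw)
    rw [code_xor, Matrix.mulVec_add, mat6_code e hg hv, mat6_code e hg hw, ← code_xor, ← code_xor,
      form_code6 (Nat.xor_lt_two_pow (n := 6) hv'.1 hw'.1), form_code6 hu']
    have k := bc_sig e hg hv hw
    rw [bc6, bc6, hv'.2, hw'.2, (mem_n6.1 hv).2, (mem_n6.1 hw).2, Bool.xor_self, Bool.xor_false,
      Bool.xor_false] at k
    rw [k]

/-- The action on the elliptic space. -/
noncomputable def eta6 : diaABFix e →* O6m :=
  (matHom6 e).toHomUnits.codRestrict _ fun g v _ => form_mat6 e g.2 v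

theorem matHom_eta6 (g : diaABFix e) : matHom (eta6 e g) = mat6 e (g : G) := rfl

theorem mem_ker_eta6 {g : diaABFix e} :
    g ∈ (eta6 e).ker ↔ ∀ v ∈ n6, sig e (g : G) v = v := by
  constructor
  · intro h v hv
    refine code6_inj (mem_n6.1 (sig_mem e g.2 hv)).1 (mem_n6.1 hv).1 ?_
    rw [← mat6_code e g.2 hv, ← matHom_eta6, MonoidHom.mem_ker.1 h, map_one, Matrix.one_mulVec]
  · intro h
    refine MonoidHom.mem_ker.2 (eq_of_act fun v => ?_)
    show matHom (eta6 e g) *ᵥ v = act 1 v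
    rw [matHom_eta6, act_one, show mat6 e (g : G) = 1 from ext_base6 fun k => by
      rw [mat6_code e g.2 (bb_mem k), h _ (bb_mem k), Matrix.one_mulVec], Matrix.one_mulVec]

theorem stepN6 {v x : ℕ} (hv : v ∈ n6) (hx : x < 64) :
    stepN en6 Q6m v x = bif bc6 v x then x ^^^ v else x := by
  obtain ⟨hv', hq⟩ := mem_n6.1 hv
  rw [stepN, form_code6 (Nat.xor_lt_two_pow (n := 6) hx hv'), form_code6 hx, form_code6 hv', bc6,
    Nat.xor_comm v x, hq]
  cases qc6 (x ^^^ v) <;> cases qc6 x <;> simp [show (1 : ZMod 2) + 1 = 0 from rfl]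

theorem sig_member {v w : ℕ} (hv : v ∈ n6) (hw : w ∈ n6) (i : Bool) :
    sig e (member e (q6 v i)) w = bif bc6 v w then v ^^^ w else w := by
  rw [sig, pm_q6 e hv hw]
  cases hb : bc6 v w
  · rw [cond_false, cond_false, lab_q6 hw]
  · rw [cond_true, cond_true, lab_q6 (edge hv hw hb).1]

theorem eta6_member {v : ℕ} (hv : v ∈ n6) (i : Bool) :
    eta6 e ⟨_, q6_fixed e hv i⟩ = rf en6 PF6 hPF6 v := by
  have h : mat6 e (member e (q6 v i)) = matHom (rf en6 PF6 hPF6 v) := ext_base6 fun k => by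
    rw [mat6_code e (q6_fixed e hv i) (bb_mem k), rf_apply, stepN6 hv (mem_n6.1 (bb_mem k)).1,
      sig_member e hv (bb_mem k), Nat.xor_comm]
  exact eq_of_act fun x => congrArg (· *ᵥ x) h

theorem eta6_surjective : Function.Surjective (eta6 e) := by
  refine MonoidHom.range_eq_top.1 (eq_top_iff.2 ?_)
  rw [← closure_rf en6 PF6 hPF6 nondeg6 (by simp), Subgroup.closure_le]
  rintro _ ⟨u, ⟨hu, hne⟩, rfl⟩
  have hu' : u < 64 := hu
  have hv : u ∈ n6 := mem_n6.2 ⟨hu', by
    rw [form_code6 hu'] at hne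
    by_contra h
    exact hne (if_neg h)⟩
  exact ⟨_, eta6_member e hv false⟩

end Cfsg.Agent.Fi22Local
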