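import Cfsg.Agent.Lib.Fi22Local.DiaPairChecks
import Cfsg.Agent.Lib.Fi22Local.DiaBlocks

/-!
# The fixed subgroup of the second twist acts on 36 pairs of members

`diaABFix e`: the elements fixed by `dia e * conj (mA e * mB e)`.  Its 72 fixed members come in 36 pairs
`q6 v false`, `q6 v true`, one for each non-singular vector `v` of the elliptic space of dimension six;
two of them commute iff the vectors are perpendicular, so the group permutes the vectors (`sig`),
respecting the polar form and the sums along edges.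
-/

set_option autoImplicit false
set_option maxRecDepth 20000

namespace Cfsg.Agent.Fi22Local

open Cfsg.Spor Cfsg.Agent.Presented Cfsg.Agent.Presented.FiIndex Pair

variable {G : Type*} [Group G] (e : Fi22 ≃* G)

/-- The elements fixed by the second twist. -/
noncomputable def diaABFix : Subgroup G :=
  (dia e * MulAut.conj (mA e * mB e)).toMonoidHom.eqLocus (MonoidHom.id G)

theorem mem_diaABFix {g : G} :
    g ∈ diaABFix e ↔ (dia e * MulAut.conj (mA e * mB e)) g = g := Iff.rfl

theorem member_mem_diaABFix {x : Pt} : member e x ∈ diaABFix e ↔ dAB x = x := by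
  rw [mem_diaABFix, conjAB_member, (member_injective e).eq_iff, Fin.ext_iff]

/-- A point of a pair. -/
def q6 (v : ℕ) (i : Bool) : Pt := if h : pt6 v i < 3510 then mkPt _ h else pA

theorem q6_val {v : ℕ} (hv : v ∈ n6) (i : Bool) : (q6 v i : ℕ) = pt6 v i := by
  rw [q6, dif_pos (pt6_ok hv i).1]
  rfl

theorem q6_fixed {v : ℕ} (hv : v ∈ n6) (i : Bool) : member e (q6 v i) ∈ diaABFix e := by
  rw [member_mem_diaABFix, q6_val hv, (pt6_ok hv i).2.1]

theorem exists_q6 {x : Pt} (hx : dAB x = x) : ∃ v ∈ n6, ∃ i, q6 v i = x := by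
  obtain ⟨v, hv, i, h⟩ := pt6_all (lt_of_lt_of_eq x.2 cert_N) hx
  exact ⟨v, hv, i, Fin.ext ((q6_val hv i).trans h)⟩

theorem lab_q6 {v : ℕ} (hv : v ∈ n6) (i : Bool) : lab (q6 v i) = v := by
  rw [q6_val hv, (pt6_ok hv i).2.2]

theorem q6_inj {v w : ℕ} (hv : v ∈ n6) (hw : w ∈ n6) {i j : Bool} (h : q6 v i = q6 w j) :
    v = w ∧ i = j := by
  obtain rfl : v = w := by rw [← lab_q6 hv i, h, lab_q6 hw]
  refine ⟨rfl, ?_⟩
  have k := pt6_ne hv
  rw [← q6_val hv, ← q6_val hv] at k
  cases i <;> cases j <;> first | rfl | exact absurd (congrArg Fin.val h) k |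
    exact absurd (congrArg Fin.val h.symm) k

/-- The action of the members on the pairs. -/
theorem pm_q6 {v w : ℕ} (hv : v ∈ n6) (hw : w ∈ n6) (i j : Bool) :
    pm e (member e (q6 v i)) (q6 w j) =
      bif bc6 v w then q6 (v ^^^ w) (xor (xor i j) (c6 v w)) else q6 w j := by
  have h := act6 hv hw i j
  rw [← q6_val hv, ← q6_val hw] at h
  cases hb : bc6 v w
  · rw [hb, cond_false] at h
    rw [cond_false]
    exact Fin.ext (memAct_eq e h (lt_of_lt_of_eq (q6 w j).2 cert_N))
  · obtain ⟨hs, -, -⟩ := edge hv hw hb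
    rw [hb, cond_true, ← q6_val hs] at h
    rw [cond_true]
    exact Fin.ext (memAct_eq e h (lt_of_lt_of_eq (q6 _ _).2 cert_N))

theorem commute_q6 {v w : ℕ} (hv : v ∈ n6) (hw : w ∈ n6) (i j : Bool) :
    Commute (member e (q6 v i)) (member e (q6 w j)) ↔ bc6 v w = false := by
  rw [← fix_iff, pm_q6 e hv hw]
  cases hb : bc6 v w
  · simp
  · rw [cond_true]
    exact iff_of_false (fun h => (edge hv hw hb).2.1 (q6_inj (edge hv hw hb).1 hw h).1) (by simp)

/-- The image of a point of a pair, as a point of a pair. -/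
theorem exists_image_q6 {g : G} (hg : g ∈ diaABFix e) {v : ℕ} (hv : v ∈ n6) (i : Bool) :
    ∃ w ∈ n6, ∃ j, q6 w j = pm e g (q6 v i) := by
  refine exists_q6 (member_mem_diaABFix e |>.1 ?_)
  rw [← member_conj]
  exact mul_mem (mul_mem hg (q6_fixed e hv i)) (inv_mem hg)

/-- The vector of the image of a vector. -/
noncomputable def sig (g : G) (v : ℕ) : ℕ := lab (pm e g (q6 v false))

theorem sig_mem {g : G} (hg : g ∈ diaABFix e) {v : ℕ} (hv : v ∈ n6) : sig e g v ∈ n6 := by
  obtain ⟨w, hw, j, h⟩ := exists_image_q6 e hg hv false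
  rw [sig, ← h, lab_q6 hw]
  exact hw

theorem commute_pm (g : G) (x y : Pt) :
    Commute (member e (pm e g x)) (member e (pm e g y)) ↔ Commute (member e x) (member e y) := by
  rw [← member_conj, ← member_conj]
  refine ⟨fun h => ?_, fun h => h.map (MulAut.conj g).toMonoidHom⟩
  have := h.map (MulAut.conj g⁻¹).toMonoidHom
  simpa [MulAut.conj_apply, mul_assoc] using this

theorem pm_sig {g : G} (hg : g ∈ diaABFix e) {v : ℕ} (hv : v ∈ n6) (i : Bool) :
    ∃ j, pm e g (q6 v i) = q6 (sig e g v) j := by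
  obtain ⟨w, hw, j, h⟩ := exists_image_q6 e hg hv i
  obtain ⟨w', hw', j', h'⟩ := exists_image_q6 e hg hv false
  suffices hww : w = w' from ⟨j, by rw [sig, ← h', lab_q6 hw', ← hww, h]⟩
  refine sep hw hw' fun u hu => ?_
  obtain ⟨u₀, hu₀, k, hk⟩ := exists_image_q6 e (inv_mem hg) hu false
  have hback : q6 u false = pm e g (q6 u₀ k) := by
    rw [hk, ← pm_mul, mul_inv_cancel, pm_one]
  have key : ∀ {w : ℕ} (hw : w ∈ n6) {i j : Bool}, q6 w j = pm e g (q6 v i) →
      (bc6 w u = false ↔ bc6 v u₀ = false) := by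
    intro w hw i j h
    rw [← commute_q6 e hw hu j false, h, hback, commute_pm, commute_q6 e hv hu₀]
  rw [Bool.eq_iff_iff, ← not_iff_not, Bool.not_eq_true, Bool.not_eq_true, key hw h, key hw' h']

theorem sig_one {v : ℕ} (hv : v ∈ n6) : sig e 1 v = v := by rw [sig, pm_one, lab_q6 hv]

theorem sig_mul {g h : G} (hg : g ∈ diaABFix e) (hh : h ∈ diaABFix e) {v : ℕ} (hv : v ∈ n6) :
    sig e (g * h) v = sig e g (sig e h v) := by
  obtain ⟨j, hj⟩ := pm_sig e hh hv false
  obtain ⟨j', hj'⟩ := pm_sig e hg (sig_mem e hh hv) j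
  rw [sig, pm_mul, hj, hj', lab_q6 (sig_mem e hg (sig_mem e hh hv))]

theorem bc_sig {g : G} (hg : g ∈ diaABFix e) {v w : ℕ} (hv : v ∈ n6) (hw : w ∈ n6) :
    bc6 (sig e g v) (sig e g w) = bc6 v w := by
  obtain ⟨i, hi⟩ := pm_sig e hg hv false
  obtain ⟨j, hj⟩ := pm_sig e hg hw false
  rw [Bool.eq_iff_iff, ← not_iff_not, Bool.not_eq_true, Bool.not_eq_true,
    ← commute_q6 e (sig_mem e hg hv) (sig_mem e hg hw) i j, ← hi, ← hj, commute_pm, commute_q6 e hv hw]

theorem pm_member_pm (g : G) (x y : Pt) :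
    pm e g (pm e (member e x) y) = pm e (member e (pm e g x)) (pm e g y) := by
  rw [← pm_mul, ← pm_mul, ← member_conj]
  congr 1
  group

theorem sig_add {g : G} (hg : g ∈ diaABFix e) {v w : ℕ} (hv : v ∈ n6) (hw : w ∈ n6)
    (hb : bc6 v w = true) : sig e g (v ^^^ w) = sig e g v ^^^ sig e g w := by
  obtain ⟨i, hi⟩ := pm_sig e hg hv false
  obtain ⟨j, hj⟩ := pm_sig e hg hw false
  have hs := (edge hv hw hb).1
  have hb' := (bc_sig e hg hv hw).trans hb
  have k := pm_member_pm e g (q6 v false) (q6 w false)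
  rw [hi, hj, pm_q6 e hv hw, pm_q6 e (sig_mem e hg hv) (sig_mem e hg hw), hb, hb', cond_true,
    cond_true] at k
  obtain ⟨l, hl⟩ := pm_sig e hg hs (xor (xor false false) (c6 v w))
  rw [hl] at k
  exact (q6_inj (sig_mem e hg hs) (edge (sig_mem e hg hv) (sig_mem e hg hw) hb').1 k).1

end Cfsg.Agent.Fi22Local
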