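import Cfsg.Agent.Lib.Fi22Local.DiaAut
import Cfsg.Agent.Lib.ClassicalSimple.SympMatrix
import Cfsg.Agent.Lib.Forms.Symp

/-!
# The fixed elements commuting with `mA` form `2 × Sp₆(2)`

They are the image of the stabiliser of the vector of `mA` in `GO₈⁺(2)`, which acts on the six
dimensional symplectic space of its perpendicular modulo itself, with the sign on the blocks.
-/

set_option autoImplicit false
set_option maxRecDepth 20000

namespace Cfsg.Agent.Fi22Local

open Cfsg Cfsg.Spor Cfsg.Agent.Presented Cfsg.Agent.Presented.FiIndex Cfsg.Agent.OrthH1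
open scoped Matrix

/-- The indices of the symplectic space. -/
abbrev I6s : Type := Fin 3 ⊕ Fin 3

/-- The vector of `mA`. -/
def u0 : I8 → ZMod 2 := Sum.elim ![0, 0, 0, 1] ![0, 0, 0, 1]

theorem code_88 : code en8 0x88 = u0 := by decide +kernel

/-- The inclusion of the six dimensional space. -/
def iotaL : (I6s → ZMod 2) →ₗ[ZMod 2] (I8 → ZMod 2) where
  toFun w := Sum.elim ![w (.inl 0), w (.inl 1), w (.inl 2), 0] ![w (.inr 0), w (.inr 1), w (.inr 2), 0]
  map_add' u v := by
    funext i; rcases i with i | i <;> fin_cases i <;> simp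
  map_smul' c v := by
    funext i; rcases i with i | i <;> fin_cases i <;> simp

/-- The projection to the six dimensional space. -/
def piL : (I8 → ZMod 2) →ₗ[ZMod 2] (I6s → ZMod 2) where
  toFun z := Sum.elim ![z (.inl 0), z (.inl 1), z (.inl 2)] ![z (.inr 0), z (.inr 1), z (.inr 2)]
  map_add' u v := by
    funext i; rcases i with i | i <;> fin_cases i <;> simp
  map_smul' c v := by
    funext i; rcases i with i | i <;> fin_cases i <;> simp

/-- The polar form. -/
def pol (z z' : I8 → ZMod 2) : ZMod 2 :=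
  quadFormPlus 4 (ZMod 2) (z + z') + quadFormPlus 4 (ZMod 2) z + quadFormPlus 4 (ZMod 2) z'

theorem two_zmod (x : ZMod 2) : x + x = 0 := by revert x; decide

theorem zmod2_cases (x : ZMod 2) : x = 0 ∨ x = 1 := by revert x; decide

theorem pol_eq (z z' : I8 → ZMod 2) :
    pol z z' = z (.inl 0) * z' (.inr 0) + z' (.inl 0) * z (.inr 0) +
      (z (.inl 1) * z' (.inr 1) + z' (.inl 1) * z (.inr 1)) +
      (z (.inl 2) * z' (.inr 2) + z' (.inl 2) * z (.inr 2)) +
      (z (.inl 3) * z' (.inr 3) + z' (.inl 3) * z (.inr 3)) := by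
  simp only [pol, quadFormPlus, Fin.sum_univ_four, Pi.add_apply]
  linear_combination (norm := ring_nf)
    two_zmod (z (.inl 0) * z (.inr 0) + z (.inl 1) * z (.inr 1) + z (.inl 2) * z (.inr 2) +
      z (.inl 3) * z (.inr 3)) +
    two_zmod (z' (.inl 0) * z' (.inr 0) + z' (.inl 1) * z' (.inr 1) + z' (.inl 2) * z' (.inr 2) +
      z' (.inl 3) * z' (.inr 3))

theorem pol_u0 (z : I8 → ZMod 2) : pol z u0 = z (.inl 3) + z (.inr 3) := by
  rw [pol_eq]; simp [u0]

theorem piL_iotaL (w : I6s → ZMod 2) : piL (iotaL w) = w := by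
  funext i; rcases i with i | i <;> fin_cases i <;> rfl

theorem pol_iotaL_u0 (w : I6s → ZMod 2) : pol (iotaL w) u0 = 0 := by
  rw [pol_u0]; simp [iotaL]

theorem piL_u0 : piL u0 = 0 := by decide +kernel

theorem form_u0 : quadFormPlus 4 (ZMod 2) u0 = 1 := by decide +kernel

/-- A vector perpendicular to `u0` is a six dimensional one plus a multiple of `u0`. -/
theorem perp_decomp {z : I8 → ZMod 2} (hz : pol z u0 = 0) :
    z = iotaL (piL z) + z (.inl 3) • u0 := by
  rw [pol_u0] at hz
  have h3 : z (.inr 3) = z (.inl 3) := by linear_combination hz - two_zmod (z (.inl 3))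
  funext i
  rcases i with i | i <;> fin_cases i <;> simp [iotaL, piL, u0, h3]

theorem symp_piL {z z' : I8 → ZMod 2} (hz : pol z u0 = 0) (hz' : pol z' u0 = 0) :
    sympForm 3 (ZMod 2) (piL z) (piL z') = pol z z' := by
  rw [pol_u0] at hz hz'
  have h3 : z (.inr 3) = z (.inl 3) := by linear_combination hz - two_zmod (z (.inl 3))
  have h3' : z' (.inr 3) = z' (.inl 3) := by linear_combination hz' - two_zmod (z' (.inl 3))
  rw [Forms.sympForm_eq_sum, pol_eq, Fin.sum_univ_three, h3, h3']
  simp only [piL, LinearMap.coe_mk, AddHom.coe_mk, Sum.elim_inl, Sum.elim_inr, Matrix.cons_val_zero,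
    Matrix.cons_val_one, Matrix.cons_val, CharTwo.sub_eq_add]
  linear_combination -(two_zmod (z (.inl 3) * z' (.inl 3)))

/-- The stabiliser of `u0`. -/
def stabU : Subgroup O8 where
  carrier := {M | act M u0 = u0}
  one_mem' := act_one u0
  mul_mem' := fun {M N} hM hN => show act (M * N) u0 = u0 by rw [act_mul, hN, hM]
  inv_mem' := fun {M} hM => show act M⁻¹ u0 = u0 by
    conv_lhs => rw [← hM, ← act_mul, inv_mul_cancel, act_one]

theorem pol_act (M : O8) (z z' : I8 → ZMod 2) : pol (act M z) (act M z') = pol z z' := by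
  rw [pol, pol, ← act_add, act8_form, act8_form, act8_form]

theorem perp_act {M : O8} (hM : M ∈ stabU) {z : I8 → ZMod 2} (hz : pol z u0 = 0) :
    pol (act M z) u0 = 0 := by
  conv_lhs => rw [← (hM : act M u0 = u0)]
  rw [pol_act, hz]

theorem act_smul (M : O8) (c : ZMod 2) (z : I8 → ZMod 2) : act M (c • z) = c • act M z :=
  Matrix.mulVec_smul _ _ _

/-- The induced map of the six dimensional space. -/
noncomputable def etaMat (M : O8) : Matrix I6s I6s (ZMod 2) :=
  LinearMap.toMatrix' (piL ∘ₗ Matrix.mulVecLin (matHom M) ∘ₗ iotaL)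

theorem etaMat_mulVec (M : O8) (w : I6s → ZMod 2) : etaMat M *ᵥ w = piL (act M (iotaL w)) := by
  rw [etaMat, LinearMap.toMatrix'_mulVec]; rfl

theorem etaMat_mem {M : O8} (hM : M ∈ stabU) : etaMat M ∈ Matrix.symplecticGroup (Fin 3) (ZMod 2) := by
  refine Forms.mem_symplecticGroup_iff_form.2 fun u v => ?_
  rw [etaMat_mulVec, etaMat_mulVec, symp_piL (perp_act hM (pol_iotaL_u0 u)) (perp_act hM (pol_iotaL_u0 v)),
    pol_act, ← symp_piL (pol_iotaL_u0 u) (pol_iotaL_u0 v), piL_iotaL, piL_iotaL]

/-- The action on the perpendicular modulo `u0`. -/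
noncomputable def eta : stabU →* Matrix.symplecticGroup (Fin 3) (ZMod 2) where
  toFun M := ⟨etaMat M, etaMat_mem M.2⟩
  map_one' := Subtype.ext (Matrix.ext_of_mulVec_single fun i => by
    show etaMat _ *ᵥ _ = _
    rw [etaMat_mulVec, Subgroup.coe_one, act_one, piL_iotaL, Submonoid.coe_one, Matrix.one_mulVec])
  map_mul' M N := Subtype.ext (Matrix.ext_of_mulVec_single fun i => by
    show etaMat _ *ᵥ _ = (etaMat M * etaMat N) *ᵥ _
    rw [← Matrix.mulVec_mulVec, etaMat_mulVec, etaMat_mulVec, etaMat_mulVec, Subgroup.coe_mul, act_mul]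
    conv_lhs => rw [perp_decomp (perp_act N.2 (pol_iotaL_u0 _))]
    rw [act_add, act_smul, (M.2 : act (M : O8) u0 = u0), map_add, map_smul, piL_u0, smul_zero,
      add_zero])

/-- The code of the non-singular vector over `w`. -/
def liftCode (w : I6s → ZMod 2) : ℕ :=
  encode en8 (iotaL w + (1 + quadFormPlus 4 (ZMod 2) (iotaL w)) • u0)

theorem code_liftCode (w : I6s → ZMod 2) : code en8 (liftCode w) =
    iotaL w + (1 + quadFormPlus 4 (ZMod 2) (iotaL w)) • u0 := code_encode en8 _

theorem liftCode_mem (w : I6s → ZMod 2) : liftCode w ∈ Dia.ns := by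
  refine mem_ns.2 ⟨encode_lt _ _, ?_⟩
  rw [code_liftCode]
  have hb := pol_iotaL_u0 w
  rw [pol, form_u0] at hb
  generalize hq : quadFormPlus 4 (ZMod 2) (iotaL w) = c at hb ⊢
  rcases zmod2_cases c with rfl | rfl
  · rw [add_zero, one_smul, show quadFormPlus 4 (ZMod 2) (iotaL w + u0) = 1 by
      linear_combination hb - two_zmod 1]
    exact one_ne_zero
  · rw [show (1 : ZMod 2) + 1 = 0 from rfl, zero_smul, add_zero]
    intro h
    rw [h] at hq
    exact zero_ne_one hq

theorem R8_act_vec {u : ℕ} (hu : u ∈ Dia.ns) (z : I8 → ZMod 2) :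
    act (R8 u) z = z + pol z (code en8 u) • code en8 u := by
  obtain ⟨x, hx, rfl⟩ := code_surjective en8 z
  have hu' := ns_lt hu
  rw [R8_act hu hx, pol, ← code_xor, form_code (xor_lt256 hx hu'), form_code hx, form_code hu', Dia.bc,
    Nat.xor_comm u x]
  cases h1 : Dia.qc (x ^^^ u) <;> cases h2 : Dia.qc x <;> cases h3 : Dia.qc u <;>
    simp [code_xor, show (1 : ZMod 2) + 1 = 0 from rfl]

theorem R8_88_mem : R8 0x88 ∈ stabU := by
  show act (R8 0x88) u0 = u0
  rw [R8_act_vec Dia.ptOf_values.2.2.1, code_88, show pol u0 u0 = 0 by decide +kernel, zero_smul,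
    add_zero]

theorem eta_R8_88 : eta ⟨_, R8_88_mem⟩ = 1 :=
  Subtype.ext (Matrix.ext_of_mulVec_single fun i => by
    show etaMat _ *ᵥ _ = _
    rw [etaMat_mulVec, Submonoid.coe_one, Matrix.one_mulVec, R8_act_vec Dia.ptOf_values.2.2.1, code_88,
      pol_iotaL_u0, zero_smul, add_zero, piL_iotaL])

theorem R8_lift_mem (w : I6s → ZMod 2) : R8 (liftCode w) ∈ stabU := by
  show act (R8 (liftCode w)) u0 = u0
  rw [R8_act_vec (liftCode_mem w), code_liftCode]
  suffices h : pol u0 (iotaL w + (1 + quadFormPlus 4 (ZMod 2) (iotaL w)) • u0) = 0 by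
    rw [h, zero_smul, add_zero]
  rw [pol_eq]
  simp only [u0, iotaL, LinearMap.coe_mk, AddHom.coe_mk, Pi.add_apply, Pi.smul_apply, Sum.elim_inl,
    Sum.elim_inr, Matrix.cons_val_zero, Matrix.cons_val_one, Matrix.cons_val, smul_eq_mul, mul_zero,
    zero_mul, add_zero, zero_add, mul_one, one_mul]
  exact two_zmod _

theorem eta_lift (w : I6s → ZMod 2) :
    (eta ⟨_, R8_lift_mem w⟩ : Matrix I6s I6s (ZMod 2)) = sympTransvection 3 w 1 := by
  refine Matrix.ext_of_mulVec_single fun i => ?_
  show etaMat _ *ᵥ _ = _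
  generalize (Pi.single i 1 : I6s → ZMod 2) = x
  rw [etaMat_mulVec, R8_act_vec (liftCode_mem w), ClassicalSimple.sympTransvection_mulVec, one_mul,
    ClassicalSimple.sympBilin_apply, map_add, map_smul, piL_iotaL, code_liftCode, map_add, map_smul,
    piL_u0, smul_zero, add_zero, piL_iotaL]
  congr 2
  have h2 : pol (iotaL w + (1 + quadFormPlus 4 (ZMod 2) (iotaL w)) • u0) u0 = 0 := by
    rw [pol_u0]; simp [iotaL, u0, two_zmod]
  rw [← symp_piL (pol_iotaL_u0 x) h2, piL_iotaL, map_add, map_smul, piL_u0, smul_zero, add_zero,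
    piL_iotaL]

theorem eta_surjective : Function.Surjective eta := by
  refine MonoidHom.range_eq_top.1 (eq_top_iff.2 ?_)
  rw [← ClassicalSimple.closure_sympTransvectionSet, Subgroup.closure_le]
  rintro A ⟨w, c, hA⟩
  rcases zmod2_cases c with rfl | rfl
  · refine ⟨1, Subtype.ext ?_⟩
    rw [map_one, hA]
    simp [sympTransvection]
  · exact ⟨⟨_, R8_lift_mem w⟩, Subtype.ext ((eta_lift w).trans hA.symm)⟩

/-- Only `1` and the reflection in `u0` act trivially. -/
theorem eq_one_or_of_eta {M : stabU} (h : eta M = 1) : (M : O8) = 1 ∨ (M : O8) = R8 0x88 := by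
  have hM : act (M : O8) u0 = u0 := M.2
  have hperp : ∀ z, pol z u0 = 0 → act (M : O8) z = z := by
    intro z hz
    have hd := perp_decomp (perp_act M.2 hz)
    have hw : piL (act (M : O8) (iotaL (piL z))) = piL z := by
      have := congrArg (fun A : Matrix.symplecticGroup (Fin 3) (ZMod 2) => (A : Matrix I6s I6s (ZMod 2)) *ᵥ piL z) h
      simpa [eta, etaMat_mulVec] using this
    have hπ : piL (act (M : O8) z) = piL z := by
      conv_lhs => rw [perp_decomp hz]
      rw [act_add, act_smul, hM, map_add, map_smul, piL_u0, smul_zero, add_zero, hw]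
    rw [hπ] at hd
    have hz' := perp_decomp hz
    have key : act (M : O8) z = z + (act (M : O8) z (.inl 3) + z (.inl 3)) • u0 := by
      conv_lhs => rw [hd]
      conv_rhs => arg 1; rw [hz']
      rw [add_smul, add_assoc, add_comm (_ • u0 : I8 → ZMod 2), add_assoc, ← add_smul, two_zmod,
        zero_smul, add_zero]
    generalize act (M : O8) z (.inl 3) + z (.inl 3) = t at key
    rcases zmod2_cases t with rfl | rfl
    · simpa using key
    · exfalso
      rw [one_smul] at key
      have hq := act8_form (M : O8) z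
      rw [key] at hq
      rw [pol, hq, two_zmod, zero_add, form_u0] at hz
      exact one_ne_zero hz
  let f4 : I8 → ZMod 2 := Pi.single (.inr 3) 1
  have hd : ∀ z, pol z u0 = 0 → pol z (act (M : O8) f4 + f4) = 0 := fun z hz => by
    have := pol_act (M : O8) z f4
    rw [hperp z hz, pol_eq, pol_eq] at this
    rw [pol_eq]
    simp only [Pi.add_apply]
    linear_combination this + two_zmod (pol z f4) - 2 * pol_eq z f4
  obtain ⟨d, hdd⟩ : ∃ d, d = act (M : O8) f4 + f4 := ⟨_, rfl⟩
  rw [← hdd] at hd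
  have hdu : d = d (.inl 3) • u0 := by
    have hperpd : pol d u0 = 0 := by
      have := hd u0 (by decide +kernel)
      rw [pol, add_comm u0] at this
      rw [pol]; linear_combination this
    have hzero : piL d = 0 := by
      funext i
      have key : ∀ w : I6s → ZMod 2, sympForm 3 (ZMod 2) w (piL d) = 0 := fun w => by
        rw [← piL_iotaL w, symp_piL (pol_iotaL_u0 w) hperpd]
        exact hd _ (pol_iotaL_u0 w)
      rcases i with i | i
      · have := key (Pi.single (.inr i) 1)
        rw [Forms.sympForm_eq_sum] at this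
        simpa [Pi.single_apply] using this
      · have := key (Pi.single (.inl i) 1)
        rw [Forms.sympForm_eq_sum] at this
        simpa [Pi.single_apply] using this
    conv_lhs => rw [perp_decomp hperpd]
    rw [hzero, map_zero, zero_add]
  have hall : ∀ z, act (M : O8) z = z + (pol z u0 * d (.inl 3)) • u0 := by
    intro z
    have hz : pol (z + pol z u0 • f4) u0 = 0 := by
      rw [pol_u0, pol_u0]
      simp [f4]
      linear_combination two_zmod (z (.inl 3) + z (.inr 3))
    have e := hperp _ hz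
    rw [act_add, act_smul] at e
    have ef : act (M : O8) f4 = f4 + d (.inl 3) • u0 := by
      rw [← hdu, hdd, add_comm (act (M : O8) f4), ← add_assoc]
      funext i; simp [two_zmod]
    rw [ef] at e
    funext i
    have := congrFun e i
    simp only [Pi.add_apply, Pi.smul_apply, smul_eq_mul] at this ⊢
    linear_combination this - pol z u0 * two_zmod (d (.inl 3) * u0 i)
  rcases zmod2_cases (d (.inl 3)) with
    hc | hc
  · left
    refine eq_of_act fun z => ?_
    rw [hall, hc, mul_zero, zero_smul, add_zero, act_one]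
  · right
    refine eq_of_act fun z => ?_
    rw [hall, hc, mul_one, R8_act_vec Dia.ptOf_values.2.2.1, code_88]

theorem center_sp6 : Subgroup.center (Matrix.symplecticGroup (Fin 3) (ZMod 2)) = ⊥ := by
  refine eq_bot_iff.2 fun g hg => Subgroup.mem_bot.2 ?_
  haveI := ClassicalSimple.nontrivial_symplectic_space (m := 3) (F := ZMod 2) (by norm_num)
  have hg' : ClassicalSimple.symplecticEquiv g ∈
      Subgroup.center (ClassicalSimple.SpB (ClassicalSimple.sympBilin 3 (ZMod 2))) := by
    rw [← ClassicalSimple.center_map_equiv ClassicalSimple.symplecticEquiv]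
    exact Subgroup.mem_map_of_mem _ hg
  obtain ⟨a, ha, hga⟩ := (ClassicalSimple.mem_center_iff_scalar ClassicalSimple.sympBilin_isAlt
    ClassicalSimple.sympBilin_nondegenerate _).1 hg'
  have ha1 : a = 1 := (zmod2_cases a).resolve_left fun h => by subst h; simp at ha
  refine Subtype.ext (Matrix.ext_of_mulVec_single fun i => ?_)
  rw [← ClassicalSimple.symplecticEquiv_smul, hga, ha1, one_smul, Submonoid.coe_one, Matrix.one_mulVec]

/-- The sign of a unit as a bit. -/
theorem units_equiv : Nonempty (ℤˣ ≃* Multiplicative (ZMod 2)) := by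
  have h1 : Nat.card ℤˣ = 2 := by rw [Nat.card_eq_fintype_card, Fintype.card_units_int]
  have h2 : Nat.card (Multiplicative (ZMod 2)) = 2 := by
    rw [Nat.card_congr Multiplicative.toAdd, Nat.card_zmod]
  haveI : IsCyclic ℤˣ := isCyclic_of_prime_card h1
  exact ⟨mulEquivOfCyclicCardEq (h1.trans h2.symm)⟩

variable {G : Type*} [Group G] [Finite G] (e : Fi22 ≃* G)
  (H : Transpos.M22 (Set.range (member e)))
include H

theorem ker_bperm : (bperm e).ker = (omegaG e H).subgroupOf (diaFix e) := by
  refine (Subgroup.eq_of_le_of_card_ge (fun g hg => ?_) ?_).symm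
  · obtain ⟨g', hg', he⟩ := omegaG_le_ker e H hg
    exact (Subtype.ext he : g' = g) ▸ hg'
  obtain ⟨f⟩ := diaFix_equiv e H
  have h1 := Subgroup.card_mul_index (bperm e).ker
  rw [Subgroup.index_ker, MonoidHom.range_eq_top.2 (bperm_surjective e H), Subgroup.card_top,
    Nat.card_perm, Nat.card_fin, Nat.card_congr f.toEquiv, card_mulAut_omega8] at h1
  rw [Nat.card_congr (Subgroup.subgroupOfEquivOfLe (omegaG_le e H)).toEquiv,
    ← Nat.card_congr (omegaGEquiv e H).toEquiv]
  rw [show Nat.factorial 3 = 6 from rfl] at h1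
  omega

omit [Finite G] H in
theorem fix43_perm (p : Equiv.Perm (Fin 3)) (h : p 0 = 0) : p = 1 ∨ p = Equiv.swap 1 2 := by
  revert p; decide

theorem psi_mem_cent (M : stabU) :
    psi e H M ∈ diaFix e ⊓ Subgroup.centralizer ({mA e} : Set G) := by
  refine ⟨psi_mem e H M, Subgroup.mem_centralizer_singleton_iff.2 ?_⟩
  have k := psi_conj e H M Dia.ptOf_values.2.2.1
  rw [code_88, (M.2 : act (M : O8) u0 = u0), ← code_88, encode_code en8 (by norm_num), mu_88] at k
  exact mul_inv_eq_iff_eq_mul.1 k

theorem exists_stab {g : G} (hg : g ∈ diaFix e) (hc : Commute g (mA e)) :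
    ∃ M : stabU, psi e H M = g := by
  have hA := Dia.ptOf_values.2.2.1
  have hfix : pm e g pA = pA := (fix_iff e g pA).2 hc
  have hb : bperm e ⟨g, hg⟩ 0 = 0 := by
    refine Fin.ext ?_
    show blkP (pm e g (rep 0)) - 1 = 0
    rw [show rep 0 = pA from rfl, hfix, ← cpt_88, blk_cpt hA]
  have key : ∀ M : O8, psi e H M = g → ∃ M : stabU, psi e H M = g := fun M hM => by
    refine ⟨⟨M, ?_⟩, hM⟩
    have k := psi_conj e H M hA
    rw [hM, mu_88, hc.eq, mul_inv_cancel_right, ← mu_88] at k
    have k' := mu_inj e hA (image_mem_ns M hA) k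
    show act M u0 = u0
    conv_rhs => rw [← code_88, k', code_encode, code_88]
  have inrange : ∀ x : diaFix e, bperm e x = 1 → ∃ M, psi e H M = (x : G) := fun x hx => by
    have hx' : x ∈ (bperm e).ker := hx
    rw [ker_bperm e H, Subgroup.mem_subgroupOf] at hx'
    obtain ⟨M, -, hM⟩ := hx'
    exact ⟨M, hM⟩
  rcases fix43_perm _ hb with h | h
  · obtain ⟨M, hM⟩ := inrange _ h
    exact key M hM
  · obtain ⟨M, hM⟩ := inrange (⟨g, hg⟩ * ⟨mu e 0x88, mu_mem e hA⟩) (by
      rw [map_mul, h, bperm_mu e H hA, Equiv.swap_mul_self])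
    refine key (M * R8 0x88) ?_
    rw [map_mul, hM, psi_R8 e H hA]
    show g * mu e 0x88 * mu e 0x88 = g
    rw [mul_assoc, mu_sq, mul_one]

/-- The fixed elements commuting with `mA`. -/
theorem diaFixA_equiv :
    Nonempty (↥(diaFix e ⊓ Subgroup.centralizer ({mA e} : Set G)) ≃*
      Multiplicative (ZMod 2) × PSp 3 (ZMod 2)) := by
  have hA := Dia.ptOf_values.2.2.1
  let f : stabU →* ↥(diaFix e ⊓ Subgroup.centralizer ({mA e} : Set G)) :=
    ((psi e H).comp stabU.subtype).codRestrict _ fun M => psi_mem_cent e H M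
  have hf : Function.Bijective f :=
    ⟨fun M N h => Subtype.ext (psi_injective e H (congrArg Subtype.val h)), fun g => by
      obtain ⟨M, hM⟩ := exists_stab e H g.2.1 (Subgroup.mem_centralizer_singleton_iff.1 g.2.2)
      exact ⟨M, Subtype.ext hM⟩⟩
  let sg : stabU →* ℤˣ := Equiv.Perm.sign.comp
    ((bperm e).comp (((psi e H).comp stabU.subtype).codRestrict _ fun M => psi_mem e H M))
  have sg88 : sg ⟨_, R8_88_mem⟩ = -1 := by
    show Equiv.Perm.sign (bperm e ⟨psi e H (R8 0x88), _⟩) = -1
    rw [show (⟨psi e H (R8 0x88), psi_mem e H _⟩ : diaFix e) = ⟨mu e 0x88, mu_mem e hA⟩ from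
      Subtype.ext (psi_R8 e H hA), bperm_mu e H hA, Equiv.Perm.sign_swap (by decide)]
  let Φ : stabU →* ℤˣ × Matrix.symplecticGroup (Fin 3) (ZMod 2) := sg.prod eta
  have hΦ : Function.Bijective Φ := by
    refine ⟨(injective_iff_map_eq_one _).2 fun M hM => ?_, fun p => ?_⟩
    · obtain ⟨h1, h2⟩ := Prod.ext_iff.1 hM
      rcases eq_one_or_of_eta h2 with h | h
      · exact Subtype.ext h
      · have : M = ⟨_, R8_88_mem⟩ := Subtype.ext h
        rw [this] at h1
        exact absurd ((sg88.symm.trans h1 : (-1 : ℤˣ) = 1)) (by decide)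
    · obtain ⟨M, hM⟩ := eta_surjective p.2
      by_cases hs : sg M = p.1
      · exact ⟨M, Prod.ext hs hM⟩
      · refine ⟨M * ⟨_, R8_88_mem⟩, Prod.ext ?_ ?_⟩
        · show sg (M * _) = p.1
          rw [map_mul, sg88]
          rcases Int.units_eq_one_or (sg M) with a | a <;> rcases Int.units_eq_one_or p.1 with b | b <;>
            first | (exact absurd (a.trans b.symm) hs) | (rw [a, b]; rfl)
        · show eta (M * _) = p.2
          rw [map_mul, eta_R8_88, mul_one, hM]
  obtain ⟨u⟩ := units_equiv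
  exact ⟨((MulEquiv.ofBijective f hf).symm.trans (MulEquiv.ofBijective Φ hΦ)).trans
    (MulEquiv.prodCongr u ((QuotientGroup.quotientMulEquivOfEq center_sp6).trans
      QuotientGroup.quotientBot).symm)⟩

end Cfsg.Agent.Fi22Local
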