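import Cfsg.Agent.Lib.Fi22Local.Members
import Cfsg.Agent.Lib.Presented.Count

/-!
# The automorphism of Fi22 reversing the long arm of its diagram

`dia e`: the automorphism exchanging the generators `a,g`, `b,f`, `c,e`; `dpi`: the permutation it
induces on the members (`dia_member`), read off the table; the counts of fixed members of `dia`,
`dia * conj A` and `dia * conj (A * B)` for the commuting fixed members `A`, `B` at the points 43, 44.
-/

set_option autoImplicit false
set_option maxRecDepth 20000

namespace Cfsg.Agent.Fi22Local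

open Cfsg.Spor Cfsg.Agent.Presented Cfsg.Agent.Presented.FiIndex

/-- The diagram symmetry on generator numbers. -/
def dsig (i : ℕ) : ℕ := bif Nat.blt i 7 then 6 - i else i

theorem dsig_lt {i : ℕ} (h : i < 9) : dsig i < 9 := by
  have : ∀ j < 9, dsig j < 9 := by decide
  exact this i h

theorem dsig_dsig {i : ℕ} (h : i < 9) : dsig (dsig i) = i := by
  have : ∀ j < 9, dsig (dsig j) = j := by decide
  exact this i h

theorem gen_idxOf_lt (x : Fi22.Gen) : gens.idxOf x < 9 := by cases x <;> decide

theorem dia_rels : ∀ r ∈ coxRelators Fi22.edges ∪ {r | r ∈ Fi22.extra},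
    FreeGroup.lift (fun x => gen (dsig (gens.idxOf x))) r = 1 := by
  intro r hr
  rw [lift_eq_wval (gens := gens) (fun x => gen (dsig (gens.idxOf x)))
    (fun x => genFun_mul_self gens_all gens_ok _) gens_all (fun i => gen (dsig i)) (fun _ => rfl)]
  have h : ((relList gens Fi22.edges Fi22.extra).map (letters gens)).all
      (fun w => FiU6Iso.same (w.map dsig) []) = true := by decide +kernel
  rw [List.all_eq_true] at h
  have := FiU6Iso.eq_of_same (h _ (List.mem_map_of_mem (mem_relList gens_all hr)))
  rwa [← wval_comp] at this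

/-- The diagram symmetry as an endomorphism. -/
def diaHom : Fi22 →* Fi22 := PresentedGroup.toGroup dia_rels

theorem diaHom_gen {i : ℕ} (hi : i < 9) : diaHom (gen i) = gen (dsig i) := by
  rw [gen, genFun, dif_pos (show i < gens.length from hi), diaHom, PresentedGroup.toGroup.of,
    gens_nodup.idxOf_getElem i (show i < gens.length from hi)]

theorem diaHom_diaHom (x : Fi22) : diaHom (diaHom x) = x := by
  have h : diaHom.comp diaHom = MonoidHom.id Fi22 := PresentedGroup.ext fun y => by
    rw [MonoidHom.comp_apply, ← genFun_idxOf (edges := Fi22.edges) (extra := Fi22.extra) gens_all y,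
      diaHom_gen (gen_idxOf_lt y), diaHom_gen (dsig_lt (gen_idxOf_lt y)),
      dsig_dsig (gen_idxOf_lt y)]
    rfl
  exact DFunLike.congr_fun h x

variable {G : Type*} [Group G] (e : Fi22 ≃* G)

/-- The diagram symmetry in `G`. -/
def dia : MulAut G :=
  e.symm.trans ((MonoidHom.toMulEquiv diaHom diaHom (MonoidHom.ext diaHom_diaHom)
    (MonoidHom.ext diaHom_diaHom)).trans e)

theorem dia_apply (g : G) : dia e g = e (diaHom (e.symm g)) := rfl

theorem dia_dia (g : G) : dia e (dia e g) = g := by
  simp [dia_apply, diaHom_diaHom]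

theorem dia_sg {i : ℕ} (hi : i < 9) : dia e (sg e i) = sg e (dsig i) := by
  rw [dia_apply, sg, MulEquiv.symm_apply_apply, diaHom_gen hi, sg]

theorem dia_ev {w : List ℕ} (hw : ∀ i ∈ w, i < 9) : dia e (ev e w) = ev e (w.map dsig) := by
  induction w with
  | nil => simp [ev_nil]
  | cons i w ih =>
    rw [List.map_cons, ev_cons, ev_cons, map_mul, ih fun j hj => hw j (List.mem_cons_of_mem _ hj),
      dia_sg e (hw i List.mem_cons_self)]

/-- The permutation of the points, read off the table. -/
noncomputable def dpiRec (fuel : ℕ) : ℕ → ℕ :=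
  Nat.rec (motive := fun _ => ℕ → ℕ) (fun _ => 3510)
    (fun _ ih x => Bool.rec
      (force (FiC3510.cert.par.get FiC3510.cert.pw x) fun p => force (ih (p / 9)) fun r =>
          bif Nat.blt r 3510 then force (dsig (p % 9)) fun g => FiC3510.cert.actOf r g else 3510)
      154 (Nat.beq x 0)) fuel

theorem dpiRec_succ (k x : ℕ) (hx : x ≠ 0) : dpiRec (k + 1) x =
    bif Nat.blt (dpiRec k (FiC3510.cert.par.get FiC3510.cert.pw x / 9)) 3510 then
      FiC3510.cert.actOf (dpiRec k (FiC3510.cert.par.get FiC3510.cert.pw x / 9))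
        (dsig (FiC3510.cert.par.get FiC3510.cert.pw x % 9))
    else 3510 := by
  obtain ⟨n, rfl⟩ := Nat.exists_eq_succ_of_ne_zero hx
  generalize hP : FiC3510.cert.par.get FiC3510.cert.pw n.succ = P
  unfold dpiRec
  simp only [force_eq, hP]
  rfl

theorem dpiRec_spec : ∀ (fuel : ℕ) (x : Pt) (r : ℕ), dpiRec fuel x = r → ∀ hr : r < 3510,
    dia e (member e x) = member e ⟨r, lt_of_lt_of_eq hr cert_N.symm⟩ := by
  intro fuel
  induction fuel with
  | zero => intro x r h hr; change 3510 = r at h; omega
  | succ k ih =>
    intro x r h hr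
    by_cases hx : (x : ℕ) = 0
    · obtain rfl : x = zero := Fin.ext hx
      change 154 = r at h
      subst h
      rw [member_zero, dia_sg e (by norm_num), show dsig 0 = 6 from rfl]
      rw [member_eq_ev e (x := ⟨154, lt_of_lt_of_eq hr cert_N.symm⟩) (w := [6])
        (show memWordOK 154 [6] = true by decide +kernel), ev_singleton]
    · obtain ⟨p, hp, hpx⟩ := parent_spec e hx
      rw [dpiRec_succ k _ hx] at h
      set g := FiC3510.cert.par.get FiC3510.cert.pw x % 9 with hg
      have hg9 : g < 9 := Nat.mod_lt _ (by norm_num)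
      by_cases hlt : dpiRec k (FiC3510.cert.par.get FiC3510.cert.pw x / 9) < 3510
      · rw [blt_true hlt, cond_true] at h
        have h1 := ih p _ (by rw [hp]) hlt
        rw [← hpx, ← member_conj, map_mul, map_mul, map_inv, h1, dia_sg e hg9, member_conj]
        refine congrArg _ (Fin.ext ?_)
        rw [pm_sg e (dsig_lt hg9)]
        exact h
      · rw [show Nat.blt (dpiRec k (FiC3510.cert.par.get FiC3510.cert.pw x / 9)) 3510 = false by
          simpa [Bool.eq_false_iff, Nat.blt_eq] using hlt, cond_false] at h
        omega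

/-- The permutation of the points. -/
noncomputable def dpi (x : ℕ) : ℕ := dpiRec fuel x

theorem dpi_lt (x : Pt) : dpi x < 3510 := by
  have h : checkBelow (fun x => Nat.blt (dpi x) 3510) 12 3510 = true := by
    rw [checkBelow_fast]; decide +kernel
  simpa [Nat.blt_eq] using checkBelow_spec h x.1 (lt_of_lt_of_eq x.2 cert_N)

theorem dia_member (x : Pt) : dia e (member e x) = member e ⟨dpi x, lt_of_lt_of_eq (dpi_lt x) cert_N.symm⟩ :=
  dpiRec_spec e fuel x _ rfl (dpi_lt x)

/-- Counting points with a property of their number. -/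
theorem card_points (f : ℕ → Bool) (P : Pt → Prop) (h : ∀ x : Pt, f x = true ↔ P x) :
    Nat.card {x : Pt // P x} = countFast f 12 3510 := by
  rw [← countBelow_fast, countBelow_spec _ (by norm_num)]
  exact Nat.card_congr (Equiv.subtypeEquiv (finCongr cert_N) fun x => (h x).symm)

/-- Counting fixed members with a property of their number. -/
theorem ncard_members (f : ℕ → Bool) (S : Set G) (hS : ∀ g ∈ S, ∃ x, member e x = g)
    (h : ∀ x : Pt, f x = true ↔ member e x ∈ S) : S.ncard = countFast f 12 3510 := by
  rw [← card_points f (fun x => member e x ∈ S) h, ← Nat.card_coe_set_eq]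
  refine (Nat.card_eq_of_bijective (fun x : {x : Pt // member e x ∈ S} => (⟨_, x.2⟩ : S))
    ⟨fun x y hxy => Subtype.ext (member_injective e (congrArg Subtype.val hxy)), fun g => ?_⟩).symm
  obtain ⟨x, hx⟩ := hS g g.2
  exact ⟨⟨x, hx ▸ g.2⟩, Subtype.ext hx⟩

end Cfsg.Agent.Fi22Local
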