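import Cfsg.Agent.Lib.Fi22Local.Diagram

/-!
# The members fixed by the diagram automorphism and its two twists

`mA`, `mB`: two commuting members fixed by `dia e`.  Of the members fixed by `dia e`, `dia e * conj mA`,
`dia e * conj (mA * mB)` there are 360, 64, 72, of which 63, 31 (for the first and last) commute with
and differ from `mA`; `mA` is the only one of the 64 commuting with all of them.
-/

set_option autoImplicit false
set_option maxRecDepth 20000

namespace Cfsg.Agent.Fi22Local

open Cfsg.Spor Cfsg.Agent.Presented Cfsg.Agent.Presented.FiIndex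

variable {G : Type*} [Group G] (e : Fi22 ≃* G)

/-- The point 43. -/
def pA : Pt := ⟨43, by decide +kernel⟩

/-- The point 44. -/
def pB : Pt := ⟨44, by decide +kernel⟩

/-- The member at 43. -/
noncomputable def mA : G := member e pA

/-- The member at 44. -/
noncomputable def mB : G := member e pB

/-- The action of a member, as a function of the number of the point. -/
theorem member_member {y : ℕ} (hy : y < 3510) (x : Pt) {r : ℕ} (h : memAct fuel y x = r)
    (hr : r < 3510) :
    member e ⟨y, lt_of_lt_of_eq hy cert_N.symm⟩ * member e x *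
      (member e ⟨y, lt_of_lt_of_eq hy cert_N.symm⟩)⁻¹ = member e ⟨r, lt_of_lt_of_eq hr cert_N.symm⟩ := by
  rw [member_conj]
  exact congrArg _ (Fin.ext (memAct_eq e (x := ⟨y, lt_of_lt_of_eq hy cert_N.symm⟩) h hr))

theorem memAct_lt {y : ℕ} (h : checkBelow (fun x => Nat.blt (memAct fuel y x) 3510) 12 3510 = true)
    (x : Pt) : memAct fuel y x < 3510 := by
  simpa [Nat.blt_eq] using checkBelow_spec h x.1 (lt_of_lt_of_eq x.2 cert_N)

theorem act43_lt (x : Pt) : memAct fuel 43 x < 3510 :=
  memAct_lt (by rw [checkBelow_fast]; decide +kernel) x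

theorem act44_lt (x : Pt) : memAct fuel 44 x < 3510 :=
  memAct_lt (by rw [checkBelow_fast]; decide +kernel) x

/-- The points of `dia e * conj mA`. -/
noncomputable def dA (x : ℕ) : ℕ := force (memAct fuel 43 x) dpi

/-- The points of `dia e * conj (mA * mB)`. -/
noncomputable def dAB (x : ℕ) : ℕ := force (memAct fuel 44 x) dA

theorem dA_lt (x : Pt) : dA x < 3510 := by
  rw [dA, force_eq]
  exact dpi_lt ⟨_, lt_of_lt_of_eq (act43_lt x) cert_N.symm⟩

theorem dAB_lt (x : Pt) : dAB x < 3510 := by
  rw [dAB, force_eq]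
  exact dA_lt ⟨_, lt_of_lt_of_eq (act44_lt x) cert_N.symm⟩

theorem conjA_member (x : Pt) : (dia e * MulAut.conj (mA e)) (member e x) =
    member e ⟨dA x, lt_of_lt_of_eq (dA_lt x) cert_N.symm⟩ := by
  have h := member_member e (y := 43) (by norm_num) x rfl (act43_lt x)
  rw [MulAut.mul_apply, MulAut.conj_apply]
  rw [show mA e = member e ⟨43, lt_of_lt_of_eq (by norm_num) cert_N.symm⟩ from rfl, h, dia_member]
  exact congrArg _ (Fin.ext (by simp only [dA, force_eq]))

theorem conjAB_member (x : Pt) : (dia e * MulAut.conj (mA e * mB e)) (member e x) =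
    member e ⟨dAB x, lt_of_lt_of_eq (dAB_lt x) cert_N.symm⟩ := by
  have h := member_member e (y := 44) (by norm_num) x rfl (act44_lt x)
  rw [map_mul, ← mul_assoc, MulAut.mul_apply, MulAut.conj_apply]
  rw [show mB e = member e ⟨44, lt_of_lt_of_eq (by norm_num) cert_N.symm⟩ from rfl, h, conjA_member]
  exact congrArg _ (Fin.ext (by simp only [dAB, force_eq]))

theorem dia_mA : dia e (mA e) = mA e := by
  rw [mA, dia_member]
  exact congrArg _ (Fin.ext (show dpi 43 = 43 by decide +kernel))

theorem dia_mB : dia e (mB e) = mB e := by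
  rw [mB, dia_member]
  exact congrArg _ (Fin.ext (show dpi 44 = 44 by decide +kernel))

theorem mA_ne_mB : mA e ≠ mB e := fun h => by
  have := congrArg Fin.val (member_injective e h)
  exact absurd this (by decide)

theorem commute_mA_mB : Commute (mA e) (mB e) :=
  (commute_members e (x := pA) (z := pB) (r := 44) (show memAct fuel 43 44 = 44 by decide +kernel)
    (by norm_num)).2 rfl

/-- An element fixed by `dia e` moving `mB` to `mA`. -/
theorem exists_fixed_conj : ∃ y : G, dia e y = y ∧ y * mB e * y⁻¹ = mA e := by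
  let C : G := member e ⟨16, lt_of_lt_of_eq (by norm_num) cert_N.symm⟩
  have hC : dia e C = C := by
    rw [dia_member]
    exact congrArg _ (Fin.ext (show dpi 16 = 16 by decide +kernel))
  refine ⟨C * mA e * (mB e * C), by simp only [map_mul, hC, dia_mA, dia_mB], ?_⟩
  have step : ∀ (y : Pt) (x r : ℕ) (hx : x < 3510) (hr : r < 3510), memAct fuel y x = r →
      member e y * member e ⟨x, lt_of_lt_of_eq hx cert_N.symm⟩ * (member e y)⁻¹ =
        member e ⟨r, lt_of_lt_of_eq hr cert_N.symm⟩ := fun y x r hx hr h =>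
    member_member e (lt_of_lt_of_eq y.2 cert_N) ⟨x, _⟩ h hr
  have h1 := step ⟨16, lt_of_lt_of_eq (by norm_num) cert_N.symm⟩ 44 (memAct fuel 16 44) (by norm_num)
    (by decide +kernel) rfl
  have h2 := step pB (memAct fuel 16 44) 16 (by decide +kernel) (by norm_num) (by decide +kernel)
  have h3 := step pA 16 (memAct fuel 43 16) (by norm_num) (by decide +kernel) rfl
  have h4 := step ⟨16, lt_of_lt_of_eq (by norm_num) cert_N.symm⟩ (memAct fuel 43 16) 43
    (by decide +kernel) (by norm_num) (by decide +kernel)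
  calc C * mA e * (mB e * C) * mB e * (C * mA e * (mB e * C))⁻¹
      = C * (mA e * (mB e * (C * mB e * C⁻¹) * (mB e)⁻¹) * (mA e)⁻¹) * C⁻¹ := by group
    _ = mA e := by rw [show mB e = member e pB from rfl] at *; erw [h1, h2, h3, h4]; rfl

/-- The members fixed by `f`, counted on the table. -/
theorem card_fixed (f : MulAut G) (d : ℕ → ℕ) (hd : ∀ x : Pt, d x < 3510)
    (h : ∀ x : Pt, f (member e x) = member e ⟨d x, lt_of_lt_of_eq (hd x) cert_N.symm⟩) :
    {g | g ∈ Set.range (member e) ∧ f g = g}.ncard = countFast (fun x => Nat.beq (d x) x) 12 3510 := by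
  refine ncard_members e _ _ (fun g hg => hg.1) fun x => ?_
  rw [Nat.beq_eq]
  change d x = x ↔ member e x ∈ Set.range (member e) ∧ f (member e x) = member e x
  rw [h, (member_injective e).eq_iff, Fin.ext_iff]
  exact ⟨fun k => ⟨⟨x, rfl⟩, k⟩, And.right⟩

/-- The members fixed by `f` commuting with and different from `mA`, counted on the table. -/
theorem card_fixed_dc (f : MulAut G) (d : ℕ → ℕ) (hd : ∀ x : Pt, d x < 3510)
    (h : ∀ x : Pt, f (member e x) = member e ⟨d x, lt_of_lt_of_eq (hd x) cert_N.symm⟩) :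
    {g | g ∈ {g | g ∈ Set.range (member e) ∧ g ≠ mA e ∧ Commute (mA e) g} ∧ f g = g}.ncard =
      countFast (fun x => !Nat.beq x 43 && Nat.beq (memAct fuel 43 x) x && Nat.beq (d x) x) 12 3510 := by
  refine ncard_members e _ _ (fun g hg => hg.1.1) fun x => ?_
  simp only [Bool.and_eq_true, Bool.not_eq_true', Nat.beq_eq, ← Bool.not_eq_true]
  change _ ↔ (member e x ∈ Set.range (member e) ∧ member e x ≠ mA e ∧ Commute (mA e) (member e x)) ∧
    f (member e x) = member e x
  rw [h, (member_injective e).eq_iff, Fin.ext_iff, mA, (member_injective e).ne_iff,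
    commute_members e (x := pA) (z := x) (r := memAct fuel 43 x) rfl (act43_lt x), ← Fin.val_ne_iff]
  exact ⟨fun ⟨⟨a, b⟩, c⟩ => ⟨⟨⟨x, rfl⟩, a, b⟩, c⟩, fun ⟨⟨_, a, b⟩, c⟩ => ⟨⟨a, b⟩, c⟩⟩

theorem card_dia : {g | g ∈ Set.range (member e) ∧ dia e g = g}.ncard = 360 :=
  (card_fixed e _ dpi dpi_lt (dia_member e)).trans (by decide +kernel)

theorem card_diaA :
    {g | g ∈ Set.range (member e) ∧ (dia e * MulAut.conj (mA e)) g = g}.ncard = 64 :=
  (card_fixed e _ dA dA_lt (conjA_member e)).trans (by decide +kernel)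

theorem card_diaAB :
    {g | g ∈ Set.range (member e) ∧ (dia e * MulAut.conj (mA e * mB e)) g = g}.ncard = 72 :=
  (card_fixed e _ dAB dAB_lt (conjAB_member e)).trans (by decide +kernel)

theorem card_dia_dc :
    {g | g ∈ {g | g ∈ Set.range (member e) ∧ g ≠ mA e ∧ Commute (mA e) g} ∧ dia e g = g}.ncard = 63 :=
  (card_fixed_dc e _ dpi dpi_lt (dia_member e)).trans (by decide +kernel)

theorem card_diaAB_dc :
    {g | g ∈ {g | g ∈ Set.range (member e) ∧ g ≠ mA e ∧ Commute (mA e) g} ∧
      (dia e * MulAut.conj (mA e * mB e)) g = g}.ncard = 31 :=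
  (card_fixed_dc e _ dAB dAB_lt (conjAB_member e)).trans (by decide +kernel)

/-- Six members fixed by `dia e * conj mA` none but `mA` commutes with. -/
def witA : List ℕ := [44, 47, 48, 50, 51, 101]

/-- `mA` alone commutes with all members fixed by `dia e * conj mA`. -/
theorem eq_mA_of_central (x : Pt) (hx : (dia e * MulAut.conj (mA e)) (member e x) = member e x)
    (hc : ∀ z : Pt, (dia e * MulAut.conj (mA e)) (member e z) = member e z →
      Commute (member e x) (member e z)) : member e x = mA e := by
  have hw : witA.all (fun z => Nat.blt z 3510 && Nat.beq (dA z) z) = true := by decide +kernel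
  have h : checkBelow (fun x => !Nat.beq (dA x) x || Nat.beq x 43 ||
      witA.any fun z => force (memAct fuel x z) fun r => Nat.blt r 3510 && !Nat.beq r z) 12 3510 = true := by
    rw [checkBelow_fast]; decide +kernel
  have hx' : dA x = x := by
    rw [conjA_member] at hx
    exact congrArg Fin.val (member_injective e hx)
  have k := checkBelow_spec h x.1 (lt_of_lt_of_eq x.2 cert_N)
  simp only [Bool.or_eq_true, Bool.not_eq_true', ← Bool.not_eq_true, Nat.beq_eq, hx',
    not_true_eq_false, false_or, List.any_eq_true, force_eq, Bool.and_eq_true, Nat.blt_eq] at k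
  rcases k with k | ⟨z, hz, hr, hne⟩
  · exact congrArg (member e) (Fin.ext k)
  simp only [List.all_eq_true, Bool.and_eq_true, Nat.blt_eq, Nat.beq_eq] at hw
  obtain ⟨hz', hzf⟩ := hw z hz
  refine absurd ?_ hne
  exact (commute_members e (x := x) (z := ⟨z, lt_of_lt_of_eq hz' cert_N.symm⟩) rfl hr).1
    (hc _ (by rw [conjA_member]; exact congrArg _ (Fin.ext hzf)))

end Cfsg.Agent.Fi22Local
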