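import Cfsg.Agent.Lib.Presented.FiThreeTrans

/-!
# Members of the class of transpositions of Fi22 as points of the coset table

For a group `G` with an isomorphism `e : Fi22 ≃* G`, the point `x` of the table of degree 3510
corresponds to the conjugate `member e x` of the first generator, and all questions about
conjugation become questions about the table.
-/

set_option autoImplicit false
set_option maxRecDepth 20000

namespace Cfsg.Agent.Fi22Local

open Cfsg.Spor Cfsg.Agent.Presented Cfsg.Agent.Presented.FiIndex

/-- The points of the table. -/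
abbrev Pt : Type := Fin FiC3510.cert.N

theorem cert_N : FiC3510.cert.N = 3510 := by decide +kernel

theorem cert_m : FiC3510.cert.m = 9 := by decide +kernel

/-- The identification of the points with the cosets. -/
noncomputable def table : Pt ≃ Fi22 ⧸ hSub := Classical.choose exists_table

theorem table_zero (x : Pt) (hx : (x : ℕ) = 0) : table x = QuotientGroup.mk 1 :=
  (Classical.choose_spec exists_table).1 x hx

theorem table_gen (g : ℕ) (hg : g < FiC3510.cert.m) (x : Pt) :
    gen g • table x = table ⟨FiC3510.cert.actOf x g,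
      CosetCert.actOf_lt FiC3510.cert_edgesOK FiC3510.cert_nodesOK x.2 hg⟩ :=
  (Classical.choose_spec exists_table).2 g hg x

/-- The point `0`. -/
def zero : Pt := ⟨0, by decide +kernel⟩

/-- The base of the stabiliser chain. -/
noncomputable def base : List ℕ := FiChain.chain.map Level.pt

theorem base_eq : base = [0, 6, 40, 154, 43, 66, 1, 5, 13] := by decide +kernel

variable {G : Type*} [Group G] (e : Fi22 ≃* G)

/-- The generators in `G`. -/
def sg (i : ℕ) : G := e (gen i)

/-- The value of a word in `G`. -/
def ev (w : List ℕ) : G := wval (sg e) w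

theorem ev_eq (w : List ℕ) : ev e w = e (wval gen w) :=
  (wval_map e.toMonoidHom w).symm

theorem ev_nil : ev e [] = 1 := rfl

theorem ev_append (a b : List ℕ) : ev e (a ++ b) = ev e b * ev e a := wval_append a b

theorem ev_cons (g : ℕ) (w : List ℕ) : ev e (g :: w) = ev e w * sg e g := rfl

theorem ev_singleton (g : ℕ) : ev e [g] = sg e g := by simp [ev, wval]

theorem ev_same {u v : List ℕ} (h : FiU6Iso.same u v = true) : ev e u = ev e v := by
  rw [ev_eq, ev_eq, FiU6Iso.eq_of_same h]

theorem sg_mul_self (i : ℕ) : sg e i * sg e i = 1 := by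
  rw [sg, ← map_mul, show gen i * gen i = 1 from genFun_mul_self gens_all gens_ok i, map_one]

theorem sg_inv (i : ℕ) : (sg e i)⁻¹ = sg e i := inv_eq_of_mul_eq_one_right (sg_mul_self e i)

theorem ev_reverse (w : List ℕ) : ev e w.reverse = (ev e w)⁻¹ := by
  induction w with
  | nil => simp [ev, wval]
  | cons g w ih =>
    rw [List.reverse_cons, ev_append, ih, ev_singleton, ev_cons, mul_inv_rev, sg_inv]

theorem closure_sg : Subgroup.closure (sg e '' {g | g < 9}) = ⊤ := by
  have h := congrArg (Subgroup.map e.toMonoidHom) FiOrder.closure_gens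
  rw [MonoidHom.map_closure, Set.image_image, Subgroup.map_top_of_surjective _ e.surjective] at h
  exact h

/-- The action of `G` on the points. -/
noncomputable def pm (g : G) (x : Pt) : Pt := table.symm (e.symm g • table x)

theorem pm_one (x : Pt) : pm e 1 x = x := by simp [pm]

theorem pm_mul (g h : G) (x : Pt) : pm e (g * h) x = pm e g (pm e h x) := by
  simp [pm, mul_smul]

theorem pm_injective (g : G) : Function.Injective (pm e g) := by
  intro x y h
  have := congrArg (pm e g⁻¹) h
  rwa [← pm_mul, ← pm_mul, inv_mul_cancel, pm_one, pm_one] at this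

theorem pm_sg {i : ℕ} (hi : i < 9) (x : Pt) : (pm e (sg e i) x : ℕ) = FiC3510.cert.actOf x i := by
  rw [pm, sg, MulEquiv.symm_apply_apply, table_gen i (by rw [cert_m]; exact hi),
    Equiv.symm_apply_apply]

theorem pm_ev {w : List ℕ} (hw : (w.all fun g => Nat.blt g 9) = true) (x : Pt) :
    (pm e (ev e w) x : ℕ) = FiC3510.cert.path w x := by
  induction w generalizing x with
  | nil => rw [ev_nil, pm_one]; rfl
  | cons g w ih =>
    simp only [List.all_cons, Bool.and_eq_true, Nat.blt_eq] at hw
    rw [ev_cons, pm_mul, ih hw.2, pm_sg e hw.1, CosetCert.path_cons]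

/-- The member at a point. -/
noncomputable def member (x : Pt) : G :=
  e ((table x).out * gen 0 * (table x).out⁻¹)

theorem member_of_mk {x : Pt} {r : Fi22} (h : table x = QuotientGroup.mk r) :
    member e x = e (r * gen 0 * r⁻¹) := by
  have h1 : (table x).out⁻¹ * r ∈ hSub := by
    rw [← QuotientGroup.eq, QuotientGroup.out_eq', h]
  have h2 := FiThreeTrans.hSub_comm _ h1
  rw [member]
  congr 1
  set q := (table x).out
  calc q * gen 0 * q⁻¹ = q * (gen 0 * (q⁻¹ * r)) * r⁻¹ := by group
    _ = q * (q⁻¹ * r * gen 0) * r⁻¹ := by rw [h2]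
    _ = _ := by group

theorem member_conj (g : G) (x : Pt) : g * member e x * g⁻¹ = member e (pm e g x) := by
  have h : table (pm e g x) = QuotientGroup.mk (e.symm g * (table x).out) := by
    rw [pm, Equiv.apply_symm_apply]
    conv_lhs => rw [← QuotientGroup.out_eq' (table x)]
    rfl
  rw [member_of_mk e h, member]
  simp [mul_assoc]

theorem member_zero : member e zero = sg e 0 := by
  rw [member_of_mk e (table_zero zero rfl)]
  simp [sg]

theorem range_member : Set.range (member e) = e '' conjugatesOf (gen 0) := by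
  ext y
  constructor
  · rintro ⟨x, rfl⟩
    exact ⟨_, isConj_iff.mpr ⟨(table x).out, rfl⟩, rfl⟩
  · rintro ⟨d, hd, rfl⟩
    obtain ⟨r, rfl⟩ := isConj_iff.mp (show IsConj (gen 0) d from hd)
    exact ⟨table.symm (QuotientGroup.mk r), member_of_mk e (Equiv.apply_symm_apply _ _)⟩

theorem card_conjugates : Nat.card (conjugatesOf (gen 0)) = Nat.card Pt := by
  haveI := FiOrder.card_le.1
  haveI := FiOrder.simple_fi22
  obtain ⟨-, hcard, -⟩ := threeTrans_of_reps (gen 0) FiU6Iso.gen0_ne_one
    (genFun_mul_self gens_all gens_ok 0) hSub FiThreeTrans.hSub_comm _ FiThreeTrans.cover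
    FiThreeTrans.not_comm FiThreeTrans.order_three
  rw [hcard, hSub_index, Nat.card_fin, cert_N]

theorem member_injective : Function.Injective (member e) := by
  have h : Nat.card (Set.range (member e)) = Nat.card Pt := by
    rw [range_member, Nat.card_image_of_injective e.injective, card_conjugates]
  have := (Nat.bijective_iff_surjective_and_card
    (Set.rangeFactorization (member e))).2 ⟨Set.rangeFactorization_surjective, h.symm⟩
  intro x y hxy
  exact this.1 (Subtype.ext hxy)

theorem fix_iff (g : G) (x : Pt) : pm e g x = x ↔ Commute g (member e x) := by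
  rw [Commute, SemiconjBy, ← mul_inv_eq_iff_eq_mul, member_conj]
  exact (member_injective e).eq_iff.symm

theorem member_mul_self (x : Pt) : member e x * member e x = 1 := by
  rw [member, ← map_mul, show ∀ r : Fi22, r * gen 0 * r⁻¹ * (r * gen 0 * r⁻¹) =
    r * (gen 0 * gen 0) * r⁻¹ from fun r => by group,
    show gen 0 * gen 0 = 1 from genFun_mul_self gens_all gens_ok 0, mul_one, mul_inv_cancel, map_one]

theorem member_inv (x : Pt) : (member e x)⁻¹ = member e x :=
  inv_eq_of_mul_eq_one_right (member_mul_self e x)

theorem eq_of_pm {g g' : G} (h : ∀ x : Pt, (x : ℕ) ∈ base → pm e g x = pm e g' x) : g = g' := by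
  haveI := FiOrder.card_le.1
  obtain ⟨tb, htb⟩ : ∃ t : Pt ≃ Fi22 ⧸ hSub, t = table := ⟨table, rfl⟩
  refine e.symm.injective (eq_of_paths FiC3510.cert_edgesOK FiC3510.cert_nodesOK table table_gen
    (by decide +kernel) FiChain.chain_ok (by rw [FiOrder.chain_prod, FiOrder.card_fi22]) _ _
    fun p hp hpN => ?_)
  have := congrArg table (h ⟨p, hpN⟩ hp)
  simpa [pm] using this

/-- The image of point `z` under the member at point `x`, read off the table. -/
noncomputable def memAct (fuel : ℕ) : ℕ → ℕ → ℕ :=
  Nat.rec (motive := fun _ => ℕ → ℕ → ℕ) (fun _ _ => 3510)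
    (fun _ ih x z => Bool.rec
      (force (FiC3510.cert.par.get FiC3510.cert.pw x) fun p => force (p % 9) fun g =>
        force (FiC3510.cert.actOf z g) fun z' => force (ih (p / 9) z') fun r =>
          bif Nat.blt r 3510 then FiC3510.cert.actOf r g else 3510)
      (FiC3510.cert.actOf z 0) (Nat.beq x 0)) fuel

theorem parent_spec {x : Pt} (hx : (x : ℕ) ≠ 0) :
    ∃ p : Pt, (p : ℕ) = FiC3510.cert.par.get FiC3510.cert.pw x / 9 ∧
      pm e (sg e (FiC3510.cert.par.get FiC3510.cert.pw x % 9)) p = x := by
  have hn := FiC3510.cert_nodesOK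
  simp only [CosetCert.nodesOK, Bool.and_eq_true] at hn
  have h := checkBelow_spec hn.1.1 x.1 x.2
  simp only [CosetCert.checkNode, force_eq, Bool.or_eq_true, Bool.and_eq_true, Nat.blt_eq,
    Nat.beq_eq, cert_m] at h
  rcases h with h | ⟨⟨hp, -⟩, hact⟩
  · exact absurd h hx
  refine ⟨⟨_, lt_trans hp x.2⟩, rfl, Fin.ext ?_⟩
  rw [pm_sg e (Nat.mod_lt _ (by norm_num))]
  rw [CosetCert.actOf, cert_m, mul_comm, Nat.div_add_mod]
  exact hact

theorem memAct_succ (k x z : ℕ) (hx : x ≠ 0) : memAct (k + 1) x z =
    bif Nat.blt (memAct k (FiC3510.cert.par.get FiC3510.cert.pw x / 9)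
        (FiC3510.cert.actOf z (FiC3510.cert.par.get FiC3510.cert.pw x % 9))) 3510 then
      FiC3510.cert.actOf (memAct k (FiC3510.cert.par.get FiC3510.cert.pw x / 9)
        (FiC3510.cert.actOf z (FiC3510.cert.par.get FiC3510.cert.pw x % 9)))
          (FiC3510.cert.par.get FiC3510.cert.pw x % 9)
    else 3510 := by
  obtain ⟨n, rfl⟩ := Nat.exists_eq_succ_of_ne_zero hx
  generalize hP : FiC3510.cert.par.get FiC3510.cert.pw n.succ = P
  unfold memAct
  simp only [force_eq, hP]
  rfl

theorem memAct_spec : ∀ (fuel : ℕ) (x z : Pt) (r : ℕ), memAct fuel x z = r → r < 3510 →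
    (pm e (member e x) z : ℕ) = r := by
  intro fuel
  induction fuel with
  | zero => intro x z r h hr; change 3510 = r at h; omega
  | succ k ih =>
    intro x z r h hr
    by_cases hx : (x : ℕ) = 0
    · obtain rfl : x = zero := Fin.ext hx
      rw [member_zero, pm_sg e (by norm_num)]
      exact h

    · obtain ⟨p, hp, hpx⟩ := parent_spec e hx
      rw [memAct_succ k _ _ hx] at h
      set g := FiC3510.cert.par.get FiC3510.cert.pw x % 9 with hg
      have hg9 : g < 9 := Nat.mod_lt _ (by norm_num)
      set z' := pm e (sg e g) z with hz'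
      by_cases hlt : memAct k (FiC3510.cert.par.get FiC3510.cert.pw x / 9)
          (FiC3510.cert.actOf z g) < 3510
      · rw [blt_true hlt, cond_true] at h
        have h1 := ih p z' _ (by rw [hp, hz', pm_sg e hg9]) hlt
        rw [← hpx, ← member_conj, sg_inv, pm_mul, pm_mul, ← hz', pm_sg e hg9, h1]
        exact h
      · rw [show Nat.blt (memAct k (FiC3510.cert.par.get FiC3510.cert.pw x / 9)
            (FiC3510.cert.actOf z g)) 3510 = false by
          simpa [Bool.eq_false_iff, Nat.blt_eq] using hlt, cond_false] at h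
        omega

/-- The fuel used for `memAct`. -/
abbrev fuel : ℕ := 40

theorem memAct_eq {x z : Pt} {r : ℕ} (h : memAct fuel x z = r) (hr : r < 3510) :
    (pm e (member e x) z : ℕ) = r := memAct_spec e fuel x z r h hr

theorem commute_members {x z : Pt} {r : ℕ} (h : memAct fuel x z = r) (hr : r < 3510) :
    Commute (member e x) (member e z) ↔ r = z := by
  rw [← fix_iff, Fin.ext_iff, memAct_eq e h hr]

/-- The member at `x` is the value of the word `w`. -/
noncomputable def memWordOK (x : ℕ) (w : List ℕ) : Bool :=
  Nat.blt x 3510 && (w.all fun g => Nat.blt g 9) &&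
    base.all fun p => force (memAct fuel x p) fun r =>
      Nat.blt r 3510 && Nat.beq r (FiC3510.cert.path w p)

theorem member_eq_ev {x : Pt} {w : List ℕ} (h : memWordOK x w = true) : member e x = ev e w := by
  simp only [memWordOK, Bool.and_eq_true, List.all_eq_true, force_eq, Nat.blt_eq, Nat.beq_eq] at h
  refine eq_of_pm e fun p hp => Fin.ext ?_
  rw [memAct_eq e rfl (h.2 p hp).1, pm_ev e (by simpa [List.all_eq_true, Nat.blt_eq] using h.1.2)]
  exact (h.2 p hp).2

/-- The number of fixed points. -/
noncomputable def cntFix (g : G) : ℕ := Nat.card {x : Pt // pm e g x = x}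

theorem cntFix_conj (g h : G) : cntFix e (g * h * g⁻¹) = cntFix e h := by
  refine (Nat.card_congr (Equiv.subtypeEquiv
    (Equiv.ofBijective (pm e g) (Finite.injective_iff_bijective.mp (pm_injective e g))) fun x => ?_)).symm
  rw [Equiv.ofBijective_apply, ← pm_mul, show g * h * g⁻¹ * g = g * h by group, pm_mul]
  exact (pm_injective e g).eq_iff.symm

theorem cntFix_ev {w : List ℕ} (hw : (w.all fun g => Nat.blt g 9) = true) :
    cntFix e (ev e w) = countBelow (fun x => Nat.beq (FiC3510.cert.path w x) x) 12 3510 := by
  rw [countBelow_spec _ (by norm_num), cntFix]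
  refine Nat.card_congr (Equiv.subtypeEquiv (finCongr cert_N) fun x => ?_)
  rw [Nat.beq_eq, Fin.ext_iff, pm_ev e hw]
  rfl

end Cfsg.Agent.Fi22Local
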